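/-
Groups in which every proper subgroup of order divisible by `q`, not a `q`-group, has order divisible by `p`,
with `p` at least `q^a - 1`: reductions and the action on `q`-subgroups.

Main results (namespace `Cfsg.Agent.LargePrime`):
* `Hyp`, `Concl`, `Hyp.subgroup`, `Hyp.quotient`, `isSimple_of_minimal`
* `Ctx`, `Ctx.no_mixed`, `move_data`: a `p`-element moving a `q`-subgroup
-/
import Cfsg.Agent.EqLemmas
import Cfsg.Agent.Lib.Transfer.Tate
import Cfsg.Agent.Lib.Transfer.Alperin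
import Cfsg.Agent.Lib.CyclicSylowAbelian.CaseNontrivial
import Cfsg.Agent.Lib.Solvable.Basic

set_option autoImplicit false

namespace Cfsg.Agent.LargePrime

open Subgroup

variable {G : Type*} [Group G] {p q : ℕ}

/-- The hypothesis. -/
structure Hyp (p q : ℕ) (G : Type*) [Group G] : Prop where
  pG : p ∣ Nat.card G
  mix : ∀ H : Subgroup G, H ≠ ⊤ → ¬ IsPGroup q H → q ∣ Nat.card H → p ∣ Nat.card H
  large : q ^ (Nat.card G).factorization q - 1 < p ∨
    (p = q ^ (Nat.card G).factorization q - 1 ∧ ∀ P : Sylow p G, IsMulCommutative P)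

/-- The conclusion. -/
def Concl (p q : ℕ) (G : Type*) [Group G] : Prop :=
  ∀ r : ℕ, r.Prime → r ∣ Nat.card G → r = p ∨ r = q

theorem exists_prime_of_not_isPGroup [Finite G] [hq : Fact q.Prime] (h : ¬ IsPGroup q G) :
    ∃ r : ℕ, r.Prime ∧ r ≠ q ∧ r ∣ Nat.card G := by
  by_contra hh
  push Not at hh
  refine h (IsPGroup.of_card (n := (Nat.card G).primeFactorsList.length)
    (Nat.eq_prime_pow_of_unique_prime_dvd Nat.card_pos.ne' fun {r} hr hd => ?_))
  by_contra hne
  exact hh r hr hne hd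

theorem factorization_mono {m n : ℕ} (hn : n ≠ 0) (h : m ∣ n) : m.factorization q ≤ n.factorization q := by
  rcases Nat.eq_zero_or_pos m with rfl | hm
  · simp
  · exact (Nat.factorization_le_iff_dvd hm.ne' hn).2 h q

theorem large_of_dvd [Finite G] [hq : Fact q.Prime] (h : Hyp p q G) {G' : Type*} [Group G'] [Finite G']
    (hd : Nat.card G' ∣ Nat.card G) (hab : (∀ P : Sylow p G, IsMulCommutative P) → ∀ P : Sylow p G', IsMulCommutative P) :
    q ^ (Nat.card G').factorization q - 1 < p ∨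
      (p = q ^ (Nat.card G').factorization q - 1 ∧ ∀ P : Sylow p G', IsMulCommutative P) := by
  have hle : q ^ (Nat.card G').factorization q ≤ q ^ (Nat.card G).factorization q :=
    Nat.pow_le_pow_right hq.out.pos (factorization_mono Nat.card_pos.ne' hd)
  rcases h.large with hl | ⟨hl, hc⟩
  · exact Or.inl (by omega)
  · by_cases he : q ^ (Nat.card G').factorization q = q ^ (Nat.card G).factorization q
    · exact Or.inr ⟨by rw [he]; exact hl, hab hc⟩
    · have : 1 ≤ q ^ (Nat.card G').factorization q := Nat.one_le_pow _ _ hq.out.pos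
      exact Or.inl (by omega)

theorem Hyp.subgroup [Finite G] [hpp : Fact p.Prime] [hq : Fact q.Prime] (h : Hyp p q G) (H : Subgroup G)
    (hH : H ≠ ⊤) (hqH : q ∣ Nat.card H) (hnq : ¬ IsPGroup q H) : Hyp p q H where
  pG := h.mix H hH hnq hqH
  mix L hL hLq hqL := by
    have hne : L.map H.subtype ≠ ⊤ := fun he => hH (eq_top_iff.2 (he ▸ map_subtype_le L))
    rw [← card_map_of_injective H.subtype_injective] at hqL ⊢
    exact h.mix _ hne (fun hp' => hLq (hp'.of_equiv (L.equivMapOfInjective _ H.subtype_injective).symm)) hqL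
  large := large_of_dvd h (card_subgroup_dvd_card H) fun hc P => by
    obtain ⟨S, hS⟩ := (P.2.map H.subtype).exists_le_sylow
    exact ⟨⟨fun a b => Subtype.ext (Subtype.ext (by simpa using congrArg Subtype.val ((hc S).is_comm.comm
      ⟨_, hS (mem_map_of_mem H.subtype a.2)⟩ ⟨_, hS (mem_map_of_mem H.subtype b.2)⟩)))⟩⟩

theorem concl_of_pGroup_normal [Finite G] [hpp : Fact p.Prime] [hq : Fact q.Prime] (hpq : p ≠ q) (h : Hyp p q G)
    (hqG : q ∣ Nat.card G) (N : Subgroup G) [N.Normal] (hN : IsPGroup p N) (hN1 : N ≠ ⊥)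
    (ih : Hyp p q (G ⧸ N) → q ∣ Nat.card (G ⧸ N) → Concl p q (G ⧸ N)) : Concl p q G := by
  intro r hr hrG
  by_contra hne
  push Not at hne
  obtain ⟨j, hj⟩ := hN.exists_card_eq
  have hj0 : j ≠ 0 := fun h0 => hN1 (eq_bot_of_card_eq _ (by rw [hj, h0, pow_zero]))
  have key : ∀ K : Subgroup (G ⧸ N), ¬ IsPGroup q K → q ∣ Nat.card K → p ∣ Nat.card K := by
    intro K hKq hqK
    by_contra hpK
    set M := K.comap (QuotientGroup.mk' N) with hM
    have hidx : (N.subgroupOf M).index = Nat.card K := by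
      rw [← (show ((QuotientGroup.mk' N).subgroupComap K).ker = N.subgroupOf M from SetLike.ext fun x => by
        rw [MonoidHom.mem_ker, Subtype.ext_iff]; exact QuotientGroup.eq_one_iff (x : G)), index_ker,
        MonoidHom.range_eq_top.2 (MonoidHom.subgroupComap_surjective_of_surjective _ _
          (QuotientGroup.mk'_surjective N)), Subgroup.card_top]
    haveI : (N.subgroupOf M).Normal := normal_subgroupOf
    have hNM : N ≤ M := fun x hx => by
      rw [hM, mem_comap, show (QuotientGroup.mk' N) x = 1 from (QuotientGroup.eq_one_iff x).2 hx]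
      exact K.one_mem
    have hcop : (Nat.card (N.subgroupOf M)).Coprime (N.subgroupOf M).index := by
      rw [hidx, Nat.card_congr (subgroupOfEquivOfLe hNM).toEquiv, hj]
      exact (hpp.out.coprime_iff_not_dvd.2 hpK).pow_left j
    obtain ⟨L, hL⟩ := exists_right_complement'_of_coprime hcop
    have hLc : Nat.card (L.map M.subtype) = Nat.card K := by
      rw [card_map_of_injective M.subtype_injective, ← hL.symm.index_eq_card, hidx]
    refine hpK (hLc ▸ h.mix _ ?_ ?_ (hLc ▸ hqK))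
    · intro he
      rw [he, card_top] at hLc
      exact hpK (hLc ▸ h.pG)
    · intro hp'
      obtain ⟨i, hi⟩ := hp'.exists_card_eq
      exact hKq (IsPGroup.of_card (n := i) (hLc ▸ hi))
  have hrQ : r ∣ Nat.card (G ⧸ N) := by
    rw [N.card_eq_card_quotient_mul_card_subgroup, hj] at hrG
    exact (hr.dvd_mul.1 hrG).resolve_right fun hd => hne.1 ((Nat.prime_dvd_prime_iff_eq hr hpp.out).1 (hr.dvd_of_dvd_pow hd))
  have hqQ : q ∣ Nat.card (G ⧸ N) := by
    rw [N.card_eq_card_quotient_mul_card_subgroup, hj] at hqG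
    exact (hq.out.dvd_mul.1 hqG).resolve_right fun hd => hpq ((Nat.prime_dvd_prime_iff_eq hq.out hpp.out).1 (hq.out.dvd_of_dvd_pow hd)).symm
  have hnq : ¬ IsPGroup q (⊤ : Subgroup (G ⧸ N)) := fun hp' => by
    obtain ⟨i, hi⟩ := hp'.exists_card_eq
    rw [card_top] at hi
    exact hne.2 ((Nat.prime_dvd_prime_iff_eq hr hq.out).1 (hr.dvd_of_dvd_pow (hi ▸ hrQ)))
  refine (ih ⟨?_, fun K _ => key K, ?_⟩ hqQ r hr hrQ).elim hne.1 hne.2
  · simpa only [card_top] using key ⊤ hnq (by rw [card_top]; exact hqQ)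
  · refine large_of_dvd h (Subgroup.card_quotient_dvd_card N) fun hc Q => ?_
    obtain ⟨P, rfl⟩ := Sylow.mapSurjective_surjective (QuotientGroup.mk'_surjective N) p Q
    refine ⟨⟨?_⟩⟩
    rintro ⟨a, ha⟩ ⟨b, hb⟩
    obtain ⟨x, hx, rfl⟩ := ha
    obtain ⟨y, hy, rfl⟩ := hb
    refine Subtype.ext ?_
    change QuotientGroup.mk' N x * QuotientGroup.mk' N y = QuotientGroup.mk' N y * QuotientGroup.mk' N x
    rw [← map_mul, ← map_mul, show x * y = y * x from congrArg Subtype.val ((hc P).is_comm.comm ⟨x, hx⟩ ⟨y, hy⟩)]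

/-- No proper subgroup of order divisible by `q` and by a further prime avoids `p`. -/
theorem not_mixed [Finite G] [hpp : Fact p.Prime] [hq : Fact q.Prime] (hpq : p ≠ q) (h : Hyp p q G) {A B : Subgroup G}
    (hn : B ≤ normalizer (A : Set G)) {i j r : ℕ} [hr : Fact r.Prime] (hrp : r ≠ p) (hrq : r ≠ q)
    (hij : (Nat.card A = q ^ i ∧ Nat.card B = r ^ j) ∨ (Nat.card A = r ^ j ∧ Nat.card B = q ^ i))
    (hi : i ≠ 0) (hj : j ≠ 0) : False := by
  have hcop : (q ^ i).Coprime (r ^ j) := Nat.Coprime.pow _ _ ((Nat.coprime_primes hq.out hr.out).2 (Ne.symm hrq))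
  have hc : Nat.card (A ⊔ B : Subgroup G) = q ^ i * r ^ j := by
    rcases hij with ⟨e1, e2⟩ | ⟨e1, e2⟩
    · rw [Coprime.card_sup_of_coprime hn (by rw [e1, e2]; exact hcop), e1, e2]
    · rw [Coprime.card_sup_of_coprime hn (by rw [e1, e2]; exact hcop.symm), e1, e2, mul_comm]
  have hp : ¬ p ∣ Nat.card (A ⊔ B : Subgroup G) := by
    rw [hc]
    exact hpp.out.not_dvd_mul
      (fun hd => hpq ((Nat.prime_dvd_prime_iff_eq hpp.out hq.out).1 (hpp.out.dvd_of_dvd_pow hd)))
      (fun hd => hrp ((Nat.prime_dvd_prime_iff_eq hpp.out hr.out).1 (hpp.out.dvd_of_dvd_pow hd)).symm)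
  refine hp (h.mix _ (fun he => hp (by rw [he, card_top]; exact h.pG)) ?_ ?_)
  · intro hp'
    obtain ⟨k, hk⟩ := hp'.exists_card_eq
    have hd : r ∣ q ^ k := hk ▸ hc ▸ (dvd_pow_self r hj).mul_left _
    exact hrq ((Nat.prime_dvd_prime_iff_eq hr.out hq.out).1 (hr.out.dvd_of_dvd_pow hd))
  · exact hc ▸ (dvd_pow_self q hi).mul_right _

/-- A `q`-subgroup is not normalized by an element of another prime order. -/
theorem not_normalized [Finite G] [hpp : Fact p.Prime] [hq : Fact q.Prime] (hpq : p ≠ q) (h : Hyp p q G) {R : Subgroup G}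
    (hR : IsPGroup q R) (hR1 : R ≠ ⊥) {y : G} (hy : y ∈ normalizer (R : Set G)) {r k : ℕ} (hr : r.Prime)
    (hyk : orderOf y = r ^ k) (hrp : r ≠ p) (hrq : r ≠ q) : y = 1 := by
  haveI := Fact.mk hr
  by_contra hy1
  obtain ⟨i, hi⟩ := hR.exists_card_eq
  exact not_mixed hpq h (A := R) (B := zpowers y) (zpowers_le.2 hy) hrp hrq
    (Or.inl ⟨hi, by rw [Nat.card_zpowers, hyk]⟩)
    (fun h0 => hR1 (eq_bot_of_card_eq _ (by rw [hi, h0, pow_zero])))
    (fun h0 => hy1 (orderOf_eq_one_iff.1 (by rw [hyk, h0, pow_zero])))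

theorem normal_false [Finite G] [hpp : Fact p.Prime] [hq : Fact q.Prime] (hpq : p ≠ q) (h : Hyp p q G)
    (hqG : q ∣ Nat.card G) (hC : ¬ Concl p q G)
    (sub : ∀ H : Subgroup G, H ≠ ⊤ → q ∣ Nat.card H → Concl p q H)
    (hquot : ∀ N : Subgroup G, N.Normal → N ≠ ⊥ → IsPGroup p N → False)
    (N : Subgroup G) [hN : N.Normal] (hN1 : N ≠ ⊥) (hN2 : N ≠ ⊤) : False := by
  simp only [Concl, not_forall, not_or] at hC
  obtain ⟨r, hr, hrG, hrp, hrq⟩ := hC
  haveI := Fact.mk hr
  by_cases hqN : q ∣ Nat.card N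
  · have hrN : ¬ r ∣ Nat.card N := fun hd => (sub N hN2 hqN r hr hd).elim hrp hrq
    obtain ⟨S⟩ := (inferInstance : Nonempty (Sylow q N))
    set Q := (S : Subgroup N).map N.subtype
    have hfr : normalizer (Q : Set G) ⊔ N = ⊤ := Sylow.normalizer_sup_eq_top S
    have hrM : r ∣ Nat.card (normalizer (Q : Set G)) := by
      set M := normalizer (Q : Set G)
      have h1 : Nat.card (M ⊔ N : Subgroup G) * Nat.card (M ⊓ N : Subgroup G) = Nat.card M * Nat.card N :=
        Solvable.card_sup_mul_card_inf M N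
      rw [hfr, card_top] at h1
      exact (hr.dvd_mul.1 (h1 ▸ hrG.mul_right _)).resolve_right hrN
    obtain ⟨y, hy⟩ := exists_prime_orderOf_dvd_card' (G := normalizer (Q : Set G)) r hrM
    have hy1 := not_normalized hpq h (S.2.map N.subtype)
      (fun hb => S.ne_bot_of_dvd_card hqN ((map_eq_bot_iff_of_injective _ N.subtype_injective).1 hb)) y.2
      (r := r) (k := 1) hr (by rw [Subgroup.orderOf_coe, hy, pow_one]) hrp hrq
    rw [← Subgroup.orderOf_coe, hy1, orderOf_one] at hy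
    exact hr.ne_one hy.symm
  · refine hquot N hN hN1 ?_
    refine IsPGroup.of_card (n := (Nat.card N).primeFactorsList.length)
      (Nat.eq_prime_pow_of_unique_prime_dvd Nat.card_pos.ne' fun {s} hs hd => ?_)
    by_contra hsp
    haveI := Fact.mk hs
    have hsq : s ≠ q := fun he => hqN (he ▸ hd)
    obtain ⟨S⟩ := (inferInstance : Nonempty (Sylow s N))
    set R := (S : Subgroup N).map N.subtype
    have hfr : normalizer (R : Set G) ⊔ N = ⊤ := Sylow.normalizer_sup_eq_top S
    set M := normalizer (R : Set G)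
    have hqM : q ∣ Nat.card M := by
      have h1 : Nat.card (M ⊔ N : Subgroup G) * Nat.card (M ⊓ N : Subgroup G) = Nat.card M * Nat.card N :=
        Solvable.card_sup_mul_card_inf M N
      rw [hfr, card_top] at h1
      exact (hq.out.dvd_mul.1 (h1 ▸ hqG.mul_right _)).resolve_right hqN
    obtain ⟨y, hy⟩ := exists_prime_orderOf_dvd_card' (G := M) q hqM
    obtain ⟨j, hj⟩ := (S.2.map N.subtype).exists_card_eq
    exact not_mixed hpq h (A := R) (B := zpowers (y : G)) (zpowers_le.2 y.2) hsp hsq (i := 1) (j := j)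
      (Or.inr ⟨hj, by rw [Nat.card_zpowers, Subgroup.orderOf_coe, hy, pow_one]⟩) one_ne_zero
      (fun h0 => by
        rw [h0, pow_zero, card_map_of_injective N.subtype_injective] at hj
        exact S.ne_bot_of_dvd_card hd (eq_bot_of_card_eq _ hj))

/-- The simple minimal counterexample. -/
structure Ctx (p q : ℕ) (G : Type*) [Group G] : Prop where
  hyp : Hyp p q G
  hpq : p ≠ q
  hp2 : p ≠ 2
  qG : q ∣ Nat.card G
  simple : IsSimpleGroup G
  bad : ∃ r : ℕ, r.Prime ∧ r ∣ Nat.card G ∧ r ≠ p ∧ r ≠ q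
  sub : ∀ H : Subgroup G, H ≠ ⊤ → q ∣ Nat.card H → Concl p q H

variable [Finite G] [hpp : Fact p.Prime] [hq : Fact q.Prime]

theorem Ctx.ne_top (C : Ctx p q G) {H : Subgroup G} (hH : ∀ r : ℕ, r.Prime → r ∣ Nat.card H → r = p ∨ r = q) :
    H ≠ ⊤ := fun he => by
  obtain ⟨r, hr, hrG, h1, h2⟩ := C.bad
  exact (hH r hr (by rw [he, card_top]; exact hrG)).elim h1 h2

theorem Ctx.not_complement (C : Ctx p q G) : ¬ Cfsg.HasNormalPComplement q G := by
  rintro ⟨Q, N, hN, hc⟩
  have h1 := hc.card_mul_card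
  obtain ⟨j, hj⟩ := Q.2.exists_card_eq
  rcases C.simple.eq_bot_or_eq_top_of_normal N hN with h | h
  · rw [h, card_bot, one_mul] at h1
    exact C.hpq ((Nat.prime_dvd_prime_iff_eq hpp.out hq.out).1 (hpp.out.dvd_of_dvd_pow (hj ▸ h1 ▸ C.hyp.pG)))
  · rw [h, card_top] at h1
    have h2 : Nat.card (Q : Subgroup G) = 1 := (Nat.mul_eq_left Nat.card_pos.ne').1 h1
    have h3 := Q.dvd_card_of_dvd_card C.qG
    rw [h2] at h3
    exact hq.out.ne_one (Nat.dvd_one.1 h3)

/-- A `p`-element normalizing a `q`-subgroup and not centralizing it. -/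
theorem Ctx.exists_mover (C : Ctx p q G) : ∃ (R : Subgroup G) (x : G), IsPGroup q R ∧
    x ∈ normalizer (R : Set G) ∧ (∃ k, orderOf x = p ^ k) ∧ x ∉ centralizer (R : Set G) := by
  by_contra hh
  push Not at hh
  obtain ⟨Q⟩ := (inferInstance : Nonempty (Sylow q G))
  refine C.not_complement (Transfer.hasNormalPComplement_of_local Q fun R hR hR1 n hn hco => ?_)
  have hRq : IsPGroup q R := Q.2.to_le hR.1
  refine Transfer.mem_of_forall_primePow fun s hs y hy ⟨k, hk⟩ => ?_
  by_cases hsp : s = p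
  · exact hh R y hRq (zpowers_le.2 hn hy) ⟨k, by rw [hk, hsp]⟩
  by_cases hsq : s = q
  · by_cases hk0 : k = 0
    · rw [orderOf_eq_one_iff.1 (show orderOf y = 1 by rw [hk, hk0, pow_zero])]; exact one_mem _
    · exfalso
      subst hsq
      exact hs.ne_one (Nat.eq_one_of_dvd_coprimes hco
        ((hk ▸ dvd_pow_self s hk0).trans (orderOf_dvd_of_mem_zpowers hy)) dvd_rfl)
  rw [not_normalized C.hpq C.hyp hRq hR1 (zpowers_le.2 hn hy) hs hk hsp hsq]
  exact one_mem _

/-- A moving `p`-element forces `p = q^a - 1` and fixes only `1`. -/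
theorem move_data (hpq : p ≠ q) (h : Hyp p q G) {R : Subgroup G} (hR : IsPGroup q R) {x : G}
    (hx : x ∈ normalizer (R : Set G)) {k : ℕ} (hk : orderOf x = p ^ k) (hxC : x ∉ centralizer (R : Set G)) :
    Nat.card R = q ^ (Nat.card G).factorization q ∧ p = q ^ (Nat.card G).factorization q - 1 ∧
      ∀ y ∈ R, x * y = y * x → y = 1 := by
  obtain ⟨i, hi⟩ := hR.exists_card_eq
  set F := R ⊓ centralizer ({x} : Set G) with hF
  obtain ⟨j, hj⟩ := (hR.to_le (inf_le_left : F ≤ R)).exists_card_eq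
  have hmod : Nat.card R ≡ Nat.card F [MOD p] := by
    have h := CyclicSylowAbelian.ncard_modEq_fixed (show x ^ p ^ k = 1 by rw [← hk, pow_orderOf_eq_one]) (R : Set G)
      fun a ha => (mem_normalizer_iff.1 hx a).1 ha
    have e : {a ∈ (R : Set G) | x * a = a * x} = (F : Set G) := Set.ext fun a =>
      ⟨fun h => ⟨h.1, mem_centralizer_singleton_iff.2 h.2.symm⟩, fun h => ⟨h.1, (mem_centralizer_singleton_iff.1 h.2).symm⟩⟩
    rw [e, ← Nat.card_coe_set_eq, ← Nat.card_coe_set_eq] at h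
    exact h
  have hlt : j < i := by
    by_contra hle
    push Not at hle
    have hFR : F = R := eq_of_le_of_card_ge inf_le_left (by rw [hi, hj]; exact Nat.pow_le_pow_right hq.out.pos hle)
    refine hxC (mem_centralizer_iff.2 fun a ha => ?_)
    exact mem_centralizer_singleton_iff.1 ((inf_eq_left.1 hFR : R ≤ centralizer ({x} : Set G)) ha)
  rw [hi, hj] at hmod
  have hd : p ∣ q ^ i - q ^ j := (Nat.modEq_iff_dvd' (Nat.pow_le_pow_right hq.out.pos hlt.le)).1 hmod.symm
  rw [show q ^ i - q ^ j = q ^ j * (q ^ (i - j) - 1) by rw [Nat.mul_sub_one, ← pow_add, Nat.add_sub_cancel' hlt.le]] at hd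
  have hd' : p ∣ q ^ (i - j) - 1 := (hpp.out.dvd_mul.1 hd).resolve_left fun hd =>
    hpq ((Nat.prime_dvd_prime_iff_eq hpp.out hq.out).1 (hpp.out.dvd_of_dvd_pow hd))
  have hpow : 1 < q ^ (i - j) := Nat.one_lt_pow (by omega) hq.out.one_lt
  have hle := Nat.le_of_dvd (by omega) hd'
  have hbound : p ≥ q ^ (Nat.card G).factorization q - 1 := by rcases h.large with h | ⟨h, -⟩ <;> omega
  set a := (Nat.card G).factorization q
  have hia : i ≤ a := (Nat.Prime.pow_dvd_iff_le_factorization hq.out Nat.card_pos.ne').1 (hi ▸ card_subgroup_dvd_card R)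
  have hmono : q ^ (i - j) ≤ q ^ a := Nat.pow_le_pow_right hq.out.pos (by omega)
  have heq : i - j = a := Nat.pow_right_injective hq.out.two_le (show q ^ (i - j) = q ^ a by omega)
  refine ⟨by rw [hi, show i = a by omega], by rw [heq] at hle; omega, fun y hy hxy => ?_⟩
  have hF1 : F = ⊥ := eq_bot_of_card_eq _ (by rw [hj, show j = 0 by omega, pow_zero])
  exact mem_bot.1 (hF1 ▸ ⟨hy, mem_centralizer_singleton_iff.2 hxy.symm⟩)

end Cfsg.Agent.LargePrime
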