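/-
A `{2,p}`-group with abelian Sylow `p`-subgroup in which a `p`-element normalizes a Sylow 2-subgroup,
transitively on its nonidentity elements: the Sylow 2-subgroup is normal.

Main result: `LargePrime.normal_sylow_two`.
-/
import Cfsg.Agent.EqLemmas
import Cfsg.Agent.Lib.Transfer.Tate
import Cfsg.Agent.Lib.Solvable.Converse
import Cfsg.Agent.Lib.Cores.Basic

set_option autoImplicit false

namespace Cfsg.Agent.LargePrime

open Subgroup

theorem map_pResidual_normal {M : Type*} [Group M] (p : ℕ) (K : Subgroup M) [hK : K.Normal] :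
    ((Cfsg.pResidual p K).map K.subtype).Normal := by
  constructor
  intro a ha g
  rw [Transfer.map_pResidual_subtype] at ha ⊢
  have : (closure {g : M | g ∈ K ∧ Nat.Coprime (orderOf g) p}).map (MulAut.conj g).toMonoidHom ≤
      closure {g : M | g ∈ K ∧ Nat.Coprime (orderOf g) p} := by
    rw [MonoidHom.map_closure]
    refine closure_mono ?_
    rintro _ ⟨s, hs, rfl⟩
    refine ⟨hK.conj_mem s hs.1 g, ?_⟩
    rw [MulEquiv.coe_toMonoidHom, MulEquiv.orderOf_eq]
    exact hs.2
  exact this ⟨a, ha, rfl⟩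

theorem normal_sylow_two {M : Type*} [Group M] [Finite M] {p : ℕ} [hpp : Fact p.Prime] (hp2 : p ≠ 2)
    (hprimes : ∀ r : ℕ, r.Prime → r ∣ Nat.card M → r = p ∨ r = 2) (P : Sylow p M)
    (hP : ∀ a ∈ (P : Subgroup M), ∀ b ∈ (P : Subgroup M), a * b = b * a) (T : Sylow 2 M)
    {u₀ : M} (hu₀ : u₀ ∈ (T : Subgroup M)) (hu₀1 : u₀ ≠ 1)
    {x : M} (hxP : x ∈ (P : Subgroup M)) (hxN : x ∈ normalizer ((T : Subgroup M) : Set M))
    (hfree : ∀ u ∈ (T : Subgroup M), x * u = u * x → u = 1)
    (horb : ∀ u ∈ (T : Subgroup M), ∀ v ∈ (T : Subgroup M), u ≠ 1 → v ≠ 1 → ∃ g : M, g * u * g⁻¹ = v) :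
    (T : Subgroup M).Normal := by
  haveI h2f : Fact (Nat.Prime 2) := ⟨Nat.prime_two⟩
  haveI : Group.IsSolvable M := Solvable.isSolvable_of_card_two_primes hpp.out Nat.prime_two hp2
    (fun r hr hd => hprimes r hr hd)
  have hTall : ∀ R : Subgroup M, R.Normal → ∀ u ∈ R, u ∈ (T : Subgroup M) → u ≠ 1 → (T : Subgroup M) ≤ R := by
    intro R hR u huR huT hu1 v hv
    by_cases hv1 : v = 1
    · rw [hv1]; exact R.one_mem
    obtain ⟨g, rfl⟩ := horb u huT v hv hu1 hv1
    exact hR.conj_mem u huR g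
  set O := Cfsg.pCore p M with hO
  haveI hOn : O.Normal := inferInstance
  have hOP : O ≤ (P : Subgroup M) := Cores.pCore_le_sylow P
  set L := centralizer (O : Set M) with hL
  haveI hLn : L.Normal := by
    constructor
    intro a ha g
    rw [hL, mem_centralizer_iff]
    intro b hb
    have h1 : g⁻¹ * b * g ∈ O := by simpa using hOn.conj_mem b hb g⁻¹
    have h2 := mem_centralizer_iff.1 ha _ h1
    calc b * (g * a * g⁻¹) = g * ((g⁻¹ * b * g) * a) * g⁻¹ := by group
      _ = g * (a * (g⁻¹ * b * g)) * g⁻¹ := by rw [h2]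
      _ = g * a * g⁻¹ * b := by group
  have hPL : (P : Subgroup M) ≤ L := fun a ha => mem_centralizer_iff.2 fun b hb => hP b (hOP hb) a ha
  have h2L : 2 ∣ Nat.card L := by
    by_contra hd
    -- then `L = P` is normal and centralizes `T`
    have hLp : IsPGroup p L := IsPGroup.of_card (n := (Nat.card L).primeFactorsList.length)
      (Nat.eq_prime_pow_of_unique_prime_dvd Nat.card_pos.ne' fun {r} hr hdr => by
        rcases hprimes r hr (hdr.trans (card_subgroup_dvd_card L)) with h | h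
        · exact h
        · exact absurd (h ▸ hdr) hd)
    have hPeq : L = (P : Subgroup M) := P.3 hLp hPL
    refine hu₀1 (hfree u₀ hu₀ ?_)
    set c := x * u₀ * x⁻¹ * u₀⁻¹ with hc
    have hcT : c ∈ (T : Subgroup M) := T.1.mul_mem ((mem_normalizer_iff.1 hxN u₀).1 hu₀) (T.1.inv_mem hu₀)
    have hcP : c ∈ (P : Subgroup M) := by
      rw [hc, show x * u₀ * x⁻¹ * u₀⁻¹ = x * (u₀ * x⁻¹ * u₀⁻¹) by group, ← hPeq]
      exact L.mul_mem (hPL hxP) (hLn.conj_mem _ (L.inv_mem (hPL hxP)) u₀)
    have hcop : Disjoint (P : Subgroup M) (T : Subgroup M) := IsPGroup.disjoint_of_ne p 2 hp2 _ _ P.2 T.2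
    have hc1 : c = 1 := disjoint_def.1 hcop hcP hcT
    rw [hc, mul_inv_eq_one, mul_inv_eq_iff_eq_mul] at hc1
    exact hc1
  have hTL : (T : Subgroup M) ≤ L := by
    obtain ⟨i, hi⟩ := exists_prime_orderOf_dvd_card' (G := L) 2 h2L
    rw [← Subgroup.orderOf_coe] at hi
    obtain ⟨T', hT'⟩ := (IsPGroup.of_card (G := zpowers (i : M)) (p := 2) (n := 1)
      (by rw [Nat.card_zpowers, hi, pow_one])).exists_le_sylow
    obtain ⟨g, rfl⟩ := MulAction.exists_smul_eq M T T'
    have h1 := hT' (mem_zpowers (i : M))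
    rw [Sylow.coe_subgroup_smul, Subgroup.mem_pointwise_smul_iff_inv_smul_mem] at h1
    simp only [MulAut.smul_def, MulAut.inv_apply, MulAut.conj_symm_apply] at h1
    refine hTall L hLn _ (by simpa using hLn.conj_mem _ i.2 g⁻¹) h1 fun h => ?_
    have : (i : M) = 1 := by
      calc (i : M) = g * (g⁻¹ * i * g) * g⁻¹ := by group
        _ = 1 := by rw [h]; group
    rw [this, orderOf_one] at hi
    omega
  have hOL : O ≤ L := hOP.trans hPL
  set π := QuotientGroup.mk' O with hπ
  haveI : (L.map π).Normal := hLn.map π (QuotientGroup.mk'_surjective O)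
  have hne : L.map π ≠ ⊥ := by
    intro h
    rw [Subgroup.map_eq_bot_iff, hπ, QuotientGroup.ker_mk'] at h
    exact hu₀1 (disjoint_def.1 (IsPGroup.disjoint_of_ne p 2 hp2 _ _ P.2 T.2) (hOP (h (hTL hu₀))) hu₀)
  obtain ⟨r, hr, R, hRn, hR1, hRL, -, hRp, -, -⟩ := Solvable.exists_minimal_normal_pGroup hne
  haveI := hRn
  haveI := Fact.mk hr
  set K := R.comap π with hK
  haveI hKn : K.Normal := hRn.comap π
  have hOK : O ≤ K := fun a ha => by
    rw [hK, mem_comap, show π a = 1 from (QuotientGroup.eq_one_iff a).2 ha]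
    exact R.one_mem
  have hKL : K ≤ L := by
    have h := comap_mono (f := π) hRL
    rwa [comap_map_eq, hπ, QuotientGroup.ker_mk', sup_eq_left.2 hOL] at h
  have hKne : K ≠ O := by
    intro h
    apply hR1
    rw [← map_comap_eq_self_of_surjective (QuotientGroup.mk'_surjective O) R, ← hπ, ← hK, h, Subgroup.map_eq_bot_iff,
      hπ, QuotientGroup.ker_mk']
  obtain ⟨j, hj⟩ := hRp.exists_card_eq
  have hj0 : j ≠ 0 := fun h0 => hR1 (eq_bot_of_card_eq _ (by rw [hj, h0, pow_zero]))
  have hKc : Nat.card K = r ^ j * Nat.card O := by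
    have h1 := K.card_mul_index
    rw [hK, index_comap_of_surjective _ (QuotientGroup.mk'_surjective O), ← hK] at h1
    have h2 := R.card_mul_index
    have h4 : 0 < R.index := Nat.pos_of_ne_zero Subgroup.FiniteIndex.index_ne_zero
    rw [O.card_eq_card_quotient_mul_card_subgroup, ← h2, hj] at h1
    exact Nat.eq_of_mul_eq_mul_right h4 (h1.trans (by ring))
  have hr2 : r = 2 := by
    rcases hprimes r hr ((((dvd_pow_self r hj0).mul_right _).trans hKc.symm.dvd).trans (card_subgroup_dvd_card K))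
      with h | h
    · exfalso
      subst h
      obtain ⟨i, hi⟩ := (Cores.isPGroup_pCore r M).exists_card_eq
      have hKp : IsPGroup r K := IsPGroup.of_card (n := j + i) (by rw [hKc, show Nat.card O = r ^ i from hi, pow_add])
      exact hKne (le_antisymm (Cores.le_pCore hKn hKp) hOK)
    · exact h
  subst hr2
  obtain ⟨i, hi⟩ := (Cores.isPGroup_pCore p M).exists_card_eq
  rw [← hO] at hi
  -- `O` is a central Sylow subgroup of `K`
  have hOK' : Nat.card (O.subgroupOf K) = p ^ i := by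
    rw [Nat.card_congr (subgroupOfEquivOfLe hOK).toEquiv, hi]
  have hnd : ¬ p ∣ (O.subgroupOf K).index := by
    intro hd
    have h1 := (O.subgroupOf K).card_mul_index
    rw [hOK', hKc, hi, mul_comm (2 ^ j)] at h1
    rw [Nat.eq_of_mul_eq_mul_left (pow_pos hpp.out.pos i) h1] at hd
    exact hp2 ((Nat.prime_dvd_prime_iff_eq hpp.out Nat.prime_two).1 (hpp.out.dvd_of_dvd_pow hd))
  let S : Sylow p K := (IsPGroup.of_card (n := i) hOK').toSylow hnd
  have hcompl : Cfsg.HasNormalPComplement p K :=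
    Transfer.hasNormalPComplement_of_normalizer_le_centralizer S fun a _ => mem_centralizer_iff.2 fun b hb =>
      Subtype.ext (mem_centralizer_iff.1 (hKL a.2) b hb)
  set R₂ := (Cfsg.pResidual p K).map K.subtype with hR₂
  have hR₂n : R₂.Normal := map_pResidual_normal p K
  have hR₂p : ¬ p ∣ Nat.card R₂ := by
    rw [hR₂, card_map_of_injective K.subtype_injective]
    exact hpp.out.coprime_iff_not_dvd.1 (Transfer.hasNormalPComplement_iff_coprime.1 hcompl).symm
  have hR₂2 : IsPGroup 2 R₂ := IsPGroup.of_card (n := (Nat.card R₂).primeFactorsList.length)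
    (Nat.eq_prime_pow_of_unique_prime_dvd Nat.card_pos.ne' fun {s} hs hd => by
      rcases hprimes s hs (hd.trans (card_subgroup_dvd_card R₂)) with h | h
      · exact absurd (h ▸ hd) hR₂p
      · exact h)
  have hR₂ne : R₂ ≠ ⊥ := by
    intro hb
    obtain ⟨z, hz⟩ := exists_prime_orderOf_dvd_card' (G := K) 2 (hKc ▸ (dvd_pow_self 2 hj0).mul_right _)
    have hzR : (z : M) ∈ R₂ := mem_map_of_mem K.subtype (Transfer.mem_pResidual_of_coprime
      (hz ▸ (Nat.coprime_primes Nat.prime_two hpp.out).2 (Ne.symm hp2)))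
    rw [hb, mem_bot] at hzR
    rw [← Subgroup.orderOf_coe, hzR, orderOf_one] at hz
    omega
  have hRT : R₂ ≤ (T : Subgroup M) := hR₂2.le_sylow_of_normal T
  obtain ⟨u, huR, hu1⟩ := (bot_or_exists_ne_one R₂).resolve_left hR₂ne
  rw [← le_antisymm hRT (hTall R₂ hR₂n u huR (hRT huR) hu1)]
  exact hR₂n

end Cfsg.Agent.LargePrime
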