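/-
The case `p = 2^a - 1`: local structure of the minimal counterexample.

Main results (namespace `Cfsg.Agent.LargePrime`): `Data`, `Data.orbit`, `Data.compl_of_no_mover`,
`Data.centralizer_involution`, `Data.central_case`
-/
import Cfsg.Agent.Lib.LargePrimeMixed.Basic
import Cfsg.Agent.Lib.LargePrimeMixed.TwoPrimes

set_option autoImplicit false

namespace Cfsg.Agent.LargePrime

open Subgroup

variable {G : Type*} [Group G] {p : ℕ}

/-- A minimal counterexample with a `p`-element `x` moving the Sylow 2-subgroup `T`. -/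
structure Data (p : ℕ) (T : Sylow 2 G) (x : G) : Prop where
  ctx : Ctx p 2 G
  pa : p = 2 ^ (Nat.card G).factorization 2 - 1
  abP : ∀ P : Sylow p G, IsMulCommutative P
  xN : x ∈ normalizer ((T : Subgroup G) : Set G)
  xpow : ∃ k, orderOf x = p ^ k
  free : ∀ u ∈ (T : Subgroup G), x * u = u * x → u = 1

namespace Data

variable [Finite G] [hpp : Fact p.Prime] [h2f : Fact (Nat.Prime 2)] {T : Sylow 2 G} {x : G} (D : Data p T x)
include D

theorem card_T : Nat.card (T : Subgroup G) = p + 1 := by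
  have h1 : 1 ≤ 2 ^ (Nat.card G).factorization 2 := Nat.one_le_two_pow
  have h2 := D.pa
  rw [T.card_eq_multiplicity]
  omega

theorem three_le : 3 ≤ p := by
  have := hpp.out.two_le
  have := D.ctx.hp2
  omega

theorem orbit {u v : G} (hu : u ∈ (T : Subgroup G)) (hv : v ∈ (T : Subgroup G)) (hu1 : u ≠ 1) (hv1 : v ≠ 1) :
    ∃ n : ℕ, x ^ n * u * (x ^ n)⁻¹ = v := by
  obtain ⟨k, hk⟩ := D.xpow
  set O : Set G := {g | ∃ n : ℕ, g = x ^ n * u * (x ^ n)⁻¹}
  have hxp : ∀ n : ℕ, x ^ n ∈ normalizer ((T : Subgroup G) : Set G) := fun n => Subgroup.pow_mem _ D.xN n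
  have hOT : O ⊆ ((T : Subgroup G) : Set G) \ {1} := by
    rintro g ⟨n, rfl⟩
    exact ⟨(mem_normalizer_iff.1 (hxp n) u).1 hu, fun h => hu1 (conj_eq_one_iff.1 (Set.mem_singleton_iff.1 h))⟩
  have hmod := CyclicSylowAbelian.ncard_modEq_fixed (show x ^ p ^ k = 1 by rw [← hk, pow_orderOf_eq_one]) O
    fun g ⟨n, hn⟩ => ⟨n + 1, by rw [hn, pow_succ']; group⟩
  rw [show {a ∈ O | x * a = a * x} = (∅ : Set G) from Set.eq_empty_iff_forall_notMem.2 fun a ⟨ha, hc⟩ =>
    (hOT ha).2 (D.free a (hOT ha).1 hc), Set.ncard_empty] at hmod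
  have hne : O.Nonempty := ⟨u, 0, by simp⟩
  have hle : p ≤ O.ncard := Nat.le_of_dvd ((Set.ncard_pos (Set.toFinite O)).2 hne) (Nat.modEq_zero_iff_dvd.1 hmod)
  have hT : (((T : Subgroup G) : Set G) \ {1}).ncard = p := by
    rw [Set.ncard_sdiff_singleton_of_mem (T : Subgroup G).one_mem, ← Nat.card_coe_set_eq]
    have := D.card_T
    change Nat.card (T : Subgroup G) - 1 = p
    omega
  have heq := Set.eq_of_subset_of_ncard_le hOT (by rw [hT]; exact hle)
  obtain ⟨n, hn⟩ := heq.ge ⟨hv, hv1⟩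
  exact ⟨n, hn.symm⟩

theorem exists_involution : ∃ u ∈ (T : Subgroup G), orderOf u = 2 := by
  obtain ⟨u, hu⟩ := exists_prime_orderOf_dvd_card' (G := (T : Subgroup G)) 2 (T.dvd_card_of_dvd_card D.ctx.qG)
  exact ⟨u, u.2, by rw [Subgroup.orderOf_coe, hu]⟩

theorem sq {u : G} (hu : u ∈ (T : Subgroup G)) : u * u = 1 := by
  by_cases hu1 : u = 1
  · rw [hu1, one_mul]
  obtain ⟨i, hi, hio⟩ := D.exists_involution
  obtain ⟨n, rfl⟩ := D.orbit hi hu (fun h => by rw [h, orderOf_one] at hio; omega) hu1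
  rw [← pow_two, conj_pow, ← hio, pow_orderOf_eq_one, mul_one, mul_inv_cancel]

theorem comm {u v : G} (hu : u ∈ (T : Subgroup G)) (hv : v ∈ (T : Subgroup G)) : u * v = v * u :=
  calc u * v = (u * v)⁻¹ := eq_inv_of_mul_eq_one_right (D.sq (T.1.mul_mem hu hv))
    _ = v⁻¹ * u⁻¹ := mul_inv_rev u v
    _ = v * u := by rw [inv_eq_of_mul_eq_one_right (D.sq hu), inv_eq_of_mul_eq_one_right (D.sq hv)]

theorem conj (g : G) : Data p (g • T) (g * x * g⁻¹) where
  ctx := D.ctx
  pa := D.pa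
  abP := D.abP
  xN := by
    refine Coprime.mem_normalizer_of_forall fun a ha => ?_
    rw [Sylow.coe_subgroup_smul, Subgroup.mem_pointwise_smul_iff_inv_smul_mem] at ha ⊢
    simp only [MulAut.smul_def, MulAut.inv_apply, MulAut.conj_symm_apply] at ha ⊢
    rw [show g⁻¹ * (g * x * g⁻¹ * a * (g * x * g⁻¹)⁻¹) * g = x * (g⁻¹ * a * g) * x⁻¹ by group]
    exact (mem_normalizer_iff.1 D.xN _).1 ha
  xpow := by
    obtain ⟨k, hk⟩ := D.xpow
    exact ⟨k, by rw [show g * x * g⁻¹ = MulAut.conj g x from rfl, MulEquiv.orderOf_eq, hk]⟩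
  free := by
    intro a ha hc
    rw [Sylow.coe_subgroup_smul, Subgroup.mem_pointwise_smul_iff_inv_smul_mem] at ha
    simp only [MulAut.smul_def, MulAut.inv_apply, MulAut.conj_symm_apply] at ha
    have h1 := D.free _ ha (by
      calc x * (g⁻¹ * a * g) = g⁻¹ * (g * x * g⁻¹ * a) * g := by group
        _ = g⁻¹ * (a * (g * x * g⁻¹)) * g := by rw [hc]
        _ = g⁻¹ * a * g * x := by group)
    calc a = g * (g⁻¹ * a * g) * g⁻¹ := by group
      _ = 1 := by rw [h1]; group

/-- Every involution is conjugate into `T`. -/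
theorem isConj_involution {i u : G} (hi : orderOf i = 2) (hu : u ∈ (T : Subgroup G)) (hu1 : u ≠ 1) :
    ∃ g : G, g * u * g⁻¹ = i := by
  obtain ⟨T', hT'⟩ := (IsPGroup.of_card (G := zpowers i) (p := 2) (n := 1)
    (by rw [Nat.card_zpowers, hi, pow_one])).exists_le_sylow
  obtain ⟨g, rfl⟩ := MulAction.exists_smul_eq G T T'
  have h1 := hT' (mem_zpowers i)
  rw [Sylow.coe_subgroup_smul, Subgroup.mem_pointwise_smul_iff_inv_smul_mem] at h1
  simp only [MulAut.smul_def, MulAut.inv_apply, MulAut.conj_symm_apply] at h1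
  obtain ⟨n, hn⟩ := D.orbit hu h1 hu1 (fun h => by
    have : i = 1 := by
      calc i = g * (g⁻¹ * i * g) * g⁻¹ := by group
        _ = 1 := by rw [h]; group
    rw [this, orderOf_one] at hi
    omega)
  refine ⟨g * x ^ n, ?_⟩
  calc g * x ^ n * u * (g * x ^ n)⁻¹ = g * (x ^ n * u * (x ^ n)⁻¹) * g⁻¹ := by group
    _ = i := by rw [hn]; group

theorem primes {H : Subgroup G} (hH : H ≠ ⊤) (h2 : 2 ∣ Nat.card H) :
    ∀ r : ℕ, r.Prime → r ∣ Nat.card H → r = p ∨ r = 2 :=
  D.ctx.sub H hH h2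

theorem pgroup_of_odd {H : Subgroup G} (hpr : ∀ r : ℕ, r.Prime → r ∣ Nat.card H → r = p ∨ r = 2)
    (h2 : ¬ 2 ∣ Nat.card H) : IsPGroup p H :=
  IsPGroup.of_card (n := (Nat.card H).primeFactorsList.length)
    (Nat.eq_prime_pow_of_unique_prime_dvd Nat.card_pos.ne' fun {r} hr hdr => by
      rcases hpr r hr hdr with h | h
      · exact h
      · exact absurd (h ▸ hdr) h2)

theorem centralizer_ne_top {z : G} (hz : z ≠ 1) : centralizer ({z} : Set G) ≠ ⊤ := fun h => by
  obtain ⟨r, hr, hrG, hr1, hr2⟩ := D.ctx.bad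
  have hz' : z ∈ center G := mem_center_iff.2 fun g =>
    mem_centralizer_singleton_iff.1 (h ▸ mem_top g : g ∈ centralizer ({z} : Set G))
  rcases D.ctx.simple.eq_bot_or_eq_top_of_normal (center G) inferInstance with h1 | h1
  · exact hz (mem_bot.1 (h1 ▸ hz'))
  · have hT := D.ctx.simple.eq_bot_or_eq_top_of_normal (T : Subgroup G) ⟨fun a ha g => by
      rw [(mem_center_iff.1 (h1 ▸ mem_top a : a ∈ center G) g), mul_inv_cancel_right]; exact ha⟩
    rcases hT with h2 | h2
    · have := D.card_T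
      rw [h2, card_bot] at this
      have := D.three_le
      omega
    · exact D.ctx.ne_top (H := (T : Subgroup G)) (fun s hs hd => Or.inr (by
        obtain ⟨j, hj⟩ := T.2.exists_card_eq
        exact (Nat.prime_dvd_prime_iff_eq hs Nat.prime_two).1 (hs.dvd_of_dvd_pow (hj ▸ hd)))) h2

/-- A `p`-element normalizing a 2-subgroup and fixing a nonidentity element of it centralizes it. -/
theorem fix_central {R : Subgroup G} (hR : IsPGroup 2 R) {y : G} (hy : y ∈ normalizer (R : Set G)) {k : ℕ}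
    (hk : orderOf y = p ^ k) {u : G} (hu : u ∈ R) (hu1 : u ≠ 1) (hc : y * u = u * y) :
    y ∈ centralizer (R : Set G) := by
  by_contra hn
  exact hu1 ((move_data D.ctx.hpq D.ctx.hyp hR hy hk hn).2.2 u hu hc)

/-- A proper even subgroup without a moving element has a normal Sylow `p`-subgroup. -/
theorem compl_of_no_mover {H : Subgroup G} (hH : H ≠ ⊤) (h2 : 2 ∣ Nat.card H)
    (hno : ∀ R : Subgroup G, IsPGroup 2 R → R ≤ H → ∀ y ∈ H, y ∈ normalizer (R : Set G) →
      (∃ k, orderOf y = p ^ k) → y ∈ centralizer (R : Set G)) :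
    ∃ K : Subgroup G, K ≤ H ∧ IsPGroup p K ∧ H ≤ normalizer (K : Set G) ∧
      (∀ g ∈ H, (∃ k, orderOf g = p ^ k) → g ∈ K) ∧ ∃ j, Nat.card H = Nat.card K * 2 ^ j := by
  have hpr := D.primes hH h2
  obtain ⟨S⟩ := (inferInstance : Nonempty (Sylow 2 H))
  have hc : Cfsg.HasNormalPComplement 2 H := Transfer.hasNormalPComplement_of_local S fun R hR hR1 n hn hco => by
    refine Transfer.mem_of_forall_primePow fun s hs y hy ⟨k, hk⟩ => ?_
    by_cases hk0 : k = 0
    · rw [orderOf_eq_one_iff.1 (show orderOf y = 1 by rw [hk, hk0, pow_zero])]; exact one_mem _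
    have hsd : s ∣ orderOf y := hk ▸ dvd_pow_self s hk0
    rcases hpr s hs (hsd.trans (orderOf_dvd_natCard y)) with rfl | rfl
    · have h1 := hno (R.map H.subtype) ((S.2.to_le hR.1).map _) (map_subtype_le _) y y.2
        (Coprime.mem_normalizer_of_forall (by
          rintro _ ⟨b, hb, rfl⟩
          exact ⟨y * b * y⁻¹, (mem_normalizer_iff.1 (zpowers_le.2 hn hy) b).1 hb, rfl⟩))
        ⟨k, by rw [Subgroup.orderOf_coe, hk]⟩
      exact mem_centralizer_iff.2 fun b hb => Subtype.ext (mem_centralizer_iff.1 h1 b (mem_map_of_mem H.subtype hb))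
    · exact absurd (Nat.eq_one_of_dvd_coprimes hco (hsd.trans (orderOf_dvd_of_mem_zpowers hy)) dvd_rfl) (by decide)
  set K := (Cfsg.pResidual 2 H).map H.subtype
  have hKodd : ¬ 2 ∣ Nat.card K := by
    rw [card_map_of_injective H.subtype_injective]
    exact Nat.prime_two.coprime_iff_not_dvd.1 (Transfer.hasNormalPComplement_iff_coprime.1 hc).symm
  refine ⟨K, map_subtype_le _, D.pgroup_of_odd (fun r hr hd => hpr r hr (hd.trans (card_dvd_of_le (map_subtype_le _))))
    hKodd, ?_, ?_, ?_⟩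
  · intro a ha
    refine Coprime.mem_normalizer_of_forall ?_
    rintro _ ⟨b, hb, rfl⟩
    exact ⟨⟨a, ha⟩ * b * ⟨a, ha⟩⁻¹, Transfer.pResidual_normal.conj_mem b hb _, rfl⟩
  · intro g hg ⟨k, hk⟩
    exact ⟨⟨g, hg⟩, Transfer.mem_pResidual_of_coprime (by
      rw [Subgroup.orderOf_mk, hk]
      exact ((Nat.coprime_primes hpp.out Nat.prime_two).2 D.ctx.hp2).pow_left k), rfl⟩
  · obtain ⟨j, hj⟩ := Transfer.exists_index_pResidual (G := H) (p := 2)
    exact ⟨j, by rw [card_map_of_injective H.subtype_injective, ← hj, card_mul_index]⟩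

/-- The `p`-elements of the centralizer of an involution form a normal `p`-complement. -/
theorem centralizer_involution {i : G} (hi : orderOf i = 2) :
    ∃ K : Subgroup G, K ≤ centralizer ({i} : Set G) ∧ IsPGroup p K ∧
      centralizer ({i} : Set G) ≤ normalizer (K : Set G) ∧
      (∀ g ∈ centralizer ({i} : Set G), (∃ k, orderOf g = p ^ k) → g ∈ K) ∧
      ∃ j, Nat.card (centralizer ({i} : Set G)) = Nat.card K * 2 ^ j := by
  have hi1 : i ≠ 1 := fun h => by rw [h, orderOf_one] at hi; omega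
  have hiC : i ∈ centralizer ({i} : Set G) := mem_centralizer_singleton_iff.2 rfl
  refine D.compl_of_no_mover (D.centralizer_ne_top hi1)
    (hi.symm.dvd.trans ((Subgroup.orderOf_coe (⟨i, hiC⟩ : centralizer ({i} : Set G))).dvd.trans (orderOf_dvd_natCard _))) ?_
  intro R hR hRH y hy hyN ⟨k, hk⟩
  by_contra hn
  obtain ⟨hRc, -, hfree⟩ := move_data D.ctx.hpq D.ctx.hyp hR hyN hk hn
  -- `R` is a Sylow 2-subgroup, so contains `i`
  have hsup : IsPGroup 2 (zpowers i ⊔ R : Subgroup G) := by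
    refine IsPGroup.to_sup_of_normal_right' (IsPGroup.of_card (n := 1) (by rw [Nat.card_zpowers, hi, pow_one])) hR ?_
    exact zpowers_le.2 (centralizer_le_normalizer _ (mem_centralizer_iff.2 fun b hb =>
      mem_centralizer_singleton_iff.1 (hRH hb)))
  obtain ⟨j, hj⟩ := hsup.exists_card_eq
  have hle : Nat.card (zpowers i ⊔ R : Subgroup G) ≤ Nat.card R := by
    rw [hRc, hj]
    exact Nat.pow_le_pow_right (by norm_num)
      ((Nat.Prime.pow_dvd_iff_le_factorization Nat.prime_two Nat.card_pos.ne').1 (hj ▸ card_subgroup_dvd_card _))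
  have heq := eq_of_le_of_card_ge (le_sup_right : R ≤ zpowers i ⊔ R) hle
  exact hi1 (hfree i (heq ▸ mem_sup_left (mem_zpowers i)) (mem_centralizer_singleton_iff.1 hy))

/-- A nontrivial `p`-element centralizing `T`: its centralizer normalizes `T`. -/
theorem central_case {z : G} (hz : ∃ k, orderOf z = p ^ k) (hz1 : z ≠ 1)
    (hT : (T : Subgroup G) ≤ centralizer ({z} : Set G)) :
    centralizer ({z} : Set G) ≤ normalizer ((T : Subgroup G) : Set G) := by
  obtain ⟨u, hu, huo⟩ := D.exists_involution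
  have hu1 : u ≠ 1 := fun h => by rw [h, orderOf_one] at huo; omega
  obtain ⟨K, hKle, hKp, -, hKmem, -⟩ := D.centralizer_involution huo
  set M := centralizer ({z} : Set G) with hM
  -- `x` centralizes `z`
  set W := K ⊓ centralizer ((T : Subgroup G) : Set G) with hW
  have hzW : z ∈ W := by
    refine ⟨hKmem z (mem_centralizer_singleton_iff.2 (mem_centralizer_singleton_iff.1 (hT hu)).symm) hz,
      mem_centralizer_iff.2 fun b hb => mem_centralizer_singleton_iff.1 (hT hb)⟩
  obtain ⟨k, hk⟩ := D.xpow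
  have hxW : x ∈ normalizer (W : Set G) := Coprime.mem_normalizer_of_forall fun b hb => by
    have hc : x * b * x⁻¹ ∈ centralizer ((T : Subgroup G) : Set G) := by
      rw [mem_centralizer_iff]
      intro v hv
      have h1 : x⁻¹ * v * x⁻¹⁻¹ ∈ (T : Subgroup G) := (mem_normalizer_iff.1 (inv_mem D.xN) v).1 hv
      rw [inv_inv] at h1
      have h2 := mem_centralizer_iff.1 hb.2 _ h1
      calc v * (x * b * x⁻¹) = x * ((x⁻¹ * v * x) * b) * x⁻¹ := by group
        _ = x * (b * (x⁻¹ * v * x)) * x⁻¹ := by rw [h2]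
        _ = x * b * x⁻¹ * v := by group
    refine ⟨hKmem _ (mem_centralizer_singleton_iff.2 (mem_centralizer_iff.1 hc u hu).symm) ?_, hc⟩
    obtain ⟨j, hj⟩ := IsPGroup.iff_orderOf.1 hKp ⟨b, hb.1⟩
    exact ⟨j, by rw [show x * b * x⁻¹ = MulAut.conj x b from rfl, MulEquiv.orderOf_eq, ← hj, Subgroup.orderOf_mk]⟩
  obtain ⟨P, hP⟩ := (IsPGroup.to_sup_of_normal_right' (IsPGroup.of_card (G := zpowers x) (p := p) (n := k)
    (by rw [Nat.card_zpowers, hk])) (hKp.to_le (inf_le_left : W ≤ K)) (zpowers_le.2 hxW)).exists_le_sylow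
  have hxP : x ∈ (P : Subgroup G) := hP (mem_sup_left (mem_zpowers x))
  have hzP : z ∈ (P : Subgroup G) := hP (mem_sup_right hzW)
  have hPcomm : ∀ a ∈ (P : Subgroup G), ∀ b ∈ (P : Subgroup G), a * b = b * a := fun a ha b hb =>
    congrArg Subtype.val ((D.abP P).is_comm.comm ⟨a, ha⟩ ⟨b, hb⟩)
  have hPM : (P : Subgroup G) ≤ M := fun a ha => mem_centralizer_singleton_iff.2 (hPcomm a ha z hzP)
  have h2M : 2 ∣ Nat.card M := huo.symm.dvd.trans
    ((Subgroup.orderOf_coe (⟨u, hT hu⟩ : M)).dvd.trans (orderOf_dvd_natCard _))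
  have hnorm := normal_sylow_two (M := M) D.ctx.hp2 (D.primes (D.centralizer_ne_top hz1) h2M) (P.subtype hPM)
    (fun a ha b hb => Subtype.ext (hPcomm a ha b hb)) (T.subtype hT)
    (u₀ := ⟨u, hT hu⟩) hu (fun h => hu1 (congrArg Subtype.val h))
    (x := ⟨x, hPM hxP⟩) hxP (Coprime.mem_normalizer_of_forall fun b hb => (mem_normalizer_iff.1 D.xN _).1 hb)
    (fun v hv hc => Subtype.ext (D.free v hv (congrArg Subtype.val hc)))
    (fun v hv w hw hv1 hw1 => by
      obtain ⟨n, hn⟩ := D.orbit (u := (v : G)) (v := (w : G)) hv hw (fun h => hv1 (Subtype.ext h))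
        (fun h => hw1 (Subtype.ext h))
      exact ⟨⟨x, hPM hxP⟩ ^ n, Subtype.ext (by simpa using hn)⟩)
  rw [Sylow.coe_subtype] at hnorm
  exact (normal_subgroupOf_iff_le_normalizer hT).1 hnorm

end Data

end Cfsg.Agent.LargePrime
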