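/-
Groups in which every proper subgroup of order divisible by `q`, not a `q`-group, has order divisible by `p`,
with `p` at least `q^a - 1`, have only the prime divisors `p` and `q`.

Main result: `LargePrime.concl`.
-/
import Cfsg.Agent.Lib.LargePrimeMixed.Local
import Cfsg.Agent.Lib.BSW.Basic

set_option autoImplicit false

namespace Cfsg.Agent.LargePrime

open Subgroup

variable {G : Type*} [Group G] {p : ℕ}

/-- The `p`-elements of the centralizer of each involution centralize a Sylow 2-subgroup containing it. -/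
def InvCentral [Finite G] (p : ℕ) (G' : Type*) [Group G'] : Prop :=
  ∀ i : G', orderOf i = 2 → ∃ (T : Sylow 2 G') (x : G'), Data p T x ∧ i ∈ (T : Subgroup G') ∧
    ∀ g ∈ centralizer ({i} : Set G'), (∃ k, orderOf g = p ^ k) → g ∈ centralizer ((T : Subgroup G') : Set G')

theorem two_mem_centralizer_dvd [Finite G] {i z : G} (hi : orderOf i = 2) (h : i * z = z * i) :
    2 ∣ Nat.card (centralizer ({z} : Set G)) :=
  hi.symm.dvd.trans ((Subgroup.orderOf_coe (⟨i, mem_centralizer_singleton_iff.2 h⟩ :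
    centralizer ({z} : Set G))).dvd.trans (orderOf_dvd_natCard _))

namespace Data

variable [Finite G] [hpp : Fact p.Prime] [h2f : Fact (Nat.Prime 2)] {T : Sylow 2 G} {x : G} (D : Data p T x)
include D

theorem pElem_conj {z g : G} (hz : ∃ k, orderOf z = p ^ k) : ∃ k, orderOf (g * z * g⁻¹) = p ^ k := by
  obtain ⟨k, hk⟩ := hz
  exact ⟨k, by rw [show g * z * g⁻¹ = MulAut.conj g z from rfl, MulEquiv.orderOf_eq, hk]⟩

theorem exists_noncommuting : ∀ t : G, orderOf t = 2 → ∃ s, orderOf s = 2 ∧ s * t ≠ t * s := by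
  intro t ht
  by_contra hh
  push Not at hh
  have ht1 : t ≠ 1 := fun h => by rw [h, orderOf_one] at ht; omega
  have hn : (closure {s : G | orderOf s = 2}).Normal := by
    constructor
    intro n hn g
    have : (closure {s : G | orderOf s = 2}).map (MulAut.conj g).toMonoidHom ≤ closure {s : G | orderOf s = 2} := by
      rw [MonoidHom.map_closure]
      refine closure_mono ?_
      rintro _ ⟨s, hs, rfl⟩
      exact (MulEquiv.orderOf_eq _ s).trans hs
    exact this ⟨n, hn, rfl⟩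
  have hle : closure {s : G | orderOf s = 2} ≤ centralizer ({t} : Set G) :=
    (closure_le _).2 fun s hs => mem_centralizer_singleton_iff.2 (hh s hs)
  rcases D.ctx.simple.eq_bot_or_eq_top_of_normal _ hn with h | h
  · exact ht1 (mem_bot.1 (h ▸ subset_closure (show t ∈ {s : G | orderOf s = 2} from ht)))
  · exact D.centralizer_ne_top ht1 (eq_top_iff.2 (h ▸ hle))

theorem normal_of_centralizes {z : G} (hz : ∃ k, orderOf z = p ^ k) (hz1 : z ≠ 1)
    (hT : (T : Subgroup G) ≤ centralizer ({z} : Set G)) {s : G} (hs : orderOf s = 2) :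
    s * z * s⁻¹ ≠ z⁻¹ := by
  intro hinv
  have hN := D.central_case hz hz1 hT
  have hsT' : ((s • T : Sylow 2 G) : Subgroup G) ≤ centralizer ({z} : Set G) := by
    intro a ha
    rw [Sylow.coe_subgroup_smul, Subgroup.mem_pointwise_smul_iff_inv_smul_mem] at ha
    simp only [MulAut.smul_def, MulAut.inv_apply, MulAut.conj_symm_apply] at ha
    have h1 : Commute (s⁻¹ * a * s) z⁻¹ := (show Commute (s⁻¹ * a * s) z from
      mem_centralizer_singleton_iff.1 (hT ha)).inv_right
    rw [mem_centralizer_singleton_iff]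
    have hinv' : s * z⁻¹ * s⁻¹ = z := by rw [← conj_inv, hinv, inv_inv]
    calc a * z = a * (s * z⁻¹ * s⁻¹) := by rw [hinv']
      _ = s * ((s⁻¹ * a * s) * z⁻¹) * s⁻¹ := by group
      _ = s * (z⁻¹ * (s⁻¹ * a * s)) * s⁻¹ := by rw [h1.eq]
      _ = (s * z⁻¹ * s⁻¹) * a := by group
      _ = z * a := by rw [hinv']
  have heq : s • T = T := Sylow.ext ((s • T).3 T.2
    (le_sup_left.trans (T.3 (IsPGroup.to_sup_of_normal_right' (s • T).2 T.2 (hsT'.trans hN)) le_sup_right).le)).symm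
  have hsN := Sylow.smul_eq_iff_mem_normalizer.1 heq
  have hsT : s ∈ (T : Subgroup G) := (T.3 (IsPGroup.to_sup_of_normal_right' (IsPGroup.of_card (G := zpowers s)
    (p := 2) (n := 1) (by rw [Nat.card_zpowers, hs, pow_one])) T.2 (zpowers_le.2 hsN)) le_sup_right).le
    (mem_sup_left (mem_zpowers s))
  have hsz : s * z * s⁻¹ = z := mul_inv_eq_iff_eq_mul.2 (mem_centralizer_singleton_iff.1 (hT hsT))
  obtain ⟨k, hk⟩ := hz
  have h2 : z ^ 2 = 1 := by
    rw [pow_two]
    nth_rewrite 1 [← hsz]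
    rw [hinv, inv_mul_cancel]
  exact hz1 (orderOf_eq_one_iff.1 (Nat.eq_one_of_dvd_coprimes
    (((Nat.coprime_primes Nat.prime_two hpp.out).2 (Ne.symm D.ctx.hp2)).pow_right k)
    (orderOf_dvd_of_pow_eq_one h2) hk.dvd))

theorem cent_comm (hIC : InvCentral (G := G) p G) {i : G} (hi : orderOf i = 2) :
    ∀ a ∈ centralizer ({i} : Set G), ∀ b ∈ centralizer ({i} : Set G), a * b = b * a := by
  obtain ⟨T', x', D', hiT, hC⟩ := hIC i hi
  obtain ⟨K, hKle, hKp, hKn, -, j, hj⟩ := D.centralizer_involution hi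
  have hTle : (T' : Subgroup G) ≤ centralizer ({i} : Set G) := fun a ha =>
    mem_centralizer_singleton_iff.2 (D'.comm ha hiT)
  have hcop : (Nat.card K).Coprime (Nat.card (T' : Subgroup G)) := by
    obtain ⟨l, hl⟩ := hKp.exists_card_eq
    obtain ⟨l', hl'⟩ := T'.2.exists_card_eq
    rw [hl, hl']
    exact Nat.Coprime.pow l l' ((Nat.coprime_primes hpp.out Nat.prime_two).2 D.ctx.hp2)
  have hsup : K ⊔ (T' : Subgroup G) = centralizer ({i} : Set G) := by
    refine eq_of_le_of_card_ge (sup_le hKle hTle) ?_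
    rw [hj, Coprime.card_sup_of_coprime (hTle.trans hKn) hcop]
    exact Nat.mul_le_mul_left _ (Nat.le_of_dvd Nat.card_pos
      (T'.pow_dvd_card_of_pow_dvd_card ((hj.symm ▸ dvd_mul_left _ _ : 2 ^ j ∣ Nat.card (centralizer ({i} : Set G))).trans
        (card_subgroup_dvd_card _))))
  obtain ⟨P, hP⟩ := hKp.exists_le_sylow
  have hpow : ∀ k ∈ K, k ∈ centralizer ((T' : Subgroup G) : Set G) := fun k hk => by
    obtain ⟨l, hl⟩ := IsPGroup.iff_orderOf.1 hKp ⟨k, hk⟩
    exact hC k (hKle hk) ⟨l, by rw [← hl, Subgroup.orderOf_mk]⟩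
  intro a ha b hb
  rw [← hsup] at ha hb
  obtain ⟨a₁, ha₁, a₂, ha₂, rfl⟩ := (Coprime.mem_sup_iff (hTle.trans hKn)).1 ha
  obtain ⟨b₁, hb₁, b₂, hb₂, rfl⟩ := (Coprime.mem_sup_iff (hTle.trans hKn)).1 hb
  have c1 : Commute a₁ b₁ := congrArg Subtype.val ((D.abP P).is_comm.comm ⟨a₁, hP ha₁⟩ ⟨b₁, hP hb₁⟩)
  have c2 : Commute a₁ b₂ := (mem_centralizer_iff.1 (hpow _ ha₁) b₂ hb₂).symm
  have c3 : Commute a₂ b₁ := mem_centralizer_iff.1 (hpow _ hb₁) a₂ ha₂
  have c4 : Commute a₂ b₂ := D'.comm ha₂ hb₂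
  exact ((c1.mul_right c2).mul_left (c3.mul_right c4)).eq

theorem pair (hIC : InvCentral (G := G) p G) {s t : G} (hs : orderOf s = 2) (ht : orderOf t = 2)
    (hne : s * t ≠ t * s) :
    s * t ≠ 1 ∧ ∃ P : Sylow p G, s * t ∈ (P : Subgroup G) ∧ centralizer ({s * t} : Set G) = (P : Subgroup G) ∧
      ∀ a ∈ (P : Subgroup G), t * a * t⁻¹ = a⁻¹ := by
  have hss : s * s = 1 := by rw [← pow_two, ← hs, pow_orderOf_eq_one]
  have htt : t * t = 1 := by rw [← pow_two, ← ht, pow_orderOf_eq_one]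
  have hsi : s⁻¹ = s := inv_eq_of_mul_eq_one_right hss
  have hti : t⁻¹ = t := inv_eq_of_mul_eq_one_right htt
  set g := s * t with hg
  have hg1 : g ≠ 1 := fun h => hne (by
    rw [hg, mul_eq_one_iff_eq_inv, hti] at h
    rw [hg, h])
  have hsg : s * g * s⁻¹ = g⁻¹ := by rw [hg, mul_inv_rev, hsi, hti, ← mul_assoc, hss, one_mul]
  have htg : t * g * t⁻¹ = g⁻¹ := by
    rw [hg, mul_inv_rev, hsi, hti, mul_assoc t, mul_assoc s, htt, mul_one]
  refine ⟨hg1, ?_⟩
  have hodd : ¬ 2 ∣ orderOf g := by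
    rintro ⟨c, hc⟩
    have hpos := orderOf_pos g
    have hi2 : orderOf (g ^ c) = 2 := by
      refine orderOf_eq_prime (by rw [← pow_mul, mul_comm, ← hc, pow_orderOf_eq_one]) fun h => ?_
      have := Nat.le_of_dvd (by omega) (orderOf_dvd_of_pow_eq_one h)
      omega
    have hii : (g ^ c)⁻¹ = g ^ c := inv_eq_of_mul_eq_one_right (by rw [← pow_add, ← two_mul, ← hc, pow_orderOf_eq_one])
    have hsC : s ∈ centralizer ({g ^ c} : Set G) := mem_centralizer_singleton_iff.2 (by
      rw [← mul_inv_eq_iff_eq_mul, ← conj_pow, hsg, inv_pow, hii])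
    have htC : t ∈ centralizer ({g ^ c} : Set G) := mem_centralizer_singleton_iff.2 (by
      rw [← mul_inv_eq_iff_eq_mul, ← conj_pow, htg, inv_pow, hii])
    exact hne (D.cent_comm hIC hi2 s hsC t htC)
  -- `g` is a `p`-element
  obtain ⟨k, hk⟩ : ∃ k, orderOf g = p ^ k := by
    refine ⟨_, Nat.eq_prime_pow_of_unique_prime_dvd (orderOf_pos g).ne' fun {r} hr hd => ?_⟩
    by_contra hrp
    haveI := Fact.mk hr
    have hr2 : r ≠ 2 := fun h => hodd (h ▸ hd)
    obtain ⟨c, hc⟩ := hd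
    have hc0 : c ≠ 0 := fun h => by
      have h1 := orderOf_pos g
      rw [hc, h, mul_zero] at h1
      omega
    have hw : orderOf (g ^ c) = r := by
      rw [orderOf_pow' g hc0, hc, Nat.gcd_eq_right (dvd_mul_left c r), Nat.mul_div_cancel _ (Nat.pos_of_ne_zero hc0)]
    refine not_mixed D.ctx.hpq D.ctx.hyp (A := zpowers (g ^ c)) (B := zpowers s) (zpowers_le.2 ?_) hrp hr2 (i := 1)
      (j := 1) (Or.inr ⟨by rw [Nat.card_zpowers, hw, pow_one], by rw [Nat.card_zpowers, hs, pow_one]⟩) one_ne_zero one_ne_zero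
    refine Coprime.mem_normalizer_of_forall fun a ha => ?_
    obtain ⟨i, rfl⟩ := mem_zpowers_iff.1 ha
    rw [← conj_zpow, ← conj_pow, hsg, inv_pow, inv_zpow]
    exact inv_mem (zpow_mem (mem_zpowers _) i)
  -- its centralizer has odd order
  have hCodd : ¬ 2 ∣ Nat.card (centralizer ({g} : Set G)) := by
    intro hd
    obtain ⟨i, hi⟩ := exists_prime_orderOf_dvd_card' (G := centralizer ({g} : Set G)) 2 hd
    rw [← Subgroup.orderOf_coe] at hi
    obtain ⟨T', x', D', -, hC⟩ := hIC i hi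
    have hgC := hC g (mem_centralizer_singleton_iff.2 (mem_centralizer_singleton_iff.1 i.2).symm) ⟨k, hk⟩
    exact D'.normal_of_centralizes ⟨k, hk⟩ hg1
      (fun a ha => mem_centralizer_singleton_iff.2 (mem_centralizer_iff.1 hgC a ha)) hs hsg
  set Cg := centralizer ({g} : Set G) with hCg
  have hgi : ∀ a : G, a * g = g * a → a * g⁻¹ = g⁻¹ * a := fun a h => (show Commute a g from h).inv_right.eq
  have htN : ∀ a ∈ Cg, t * a * t⁻¹ ∈ Cg := by
    intro a ha
    have h1 := hgi a (mem_centralizer_singleton_iff.1 ha)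
    have hgconj : t * g⁻¹ * t⁻¹ = g := by rw [← conj_inv, htg, inv_inv]
    rw [hCg, mem_centralizer_singleton_iff]
    calc t * a * t⁻¹ * g = t * a * t⁻¹ * (t * g⁻¹ * t⁻¹) := by rw [hgconj]
      _ = t * (a * g⁻¹) * t⁻¹ := by group
      _ = t * (g⁻¹ * a) * t⁻¹ := by rw [h1]
      _ = (t * g⁻¹ * t⁻¹) * (t * a * t⁻¹) := by group
      _ = g * (t * a * t⁻¹) := by rw [hgconj]
  have hCp : IsPGroup p Cg := by
    set H := Cg ⊔ zpowers t
    have htn : zpowers t ≤ normalizer (Cg : Set G) := zpowers_le.2 (Coprime.mem_normalizer_of_forall htN)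
    have hHN : H ≤ normalizer (zpowers g : Set G) := by
      refine sup_le ?_ (zpowers_le.2 (Coprime.mem_normalizer_of_forall fun a ha => ?_))
      · rw [hCg, zpowers_eq_closure, ← centralizer_closure]; exact centralizer_le_normalizer _
      · obtain ⟨i, rfl⟩ := mem_zpowers_iff.1 ha
        rw [← conj_zpow, htg, inv_zpow]
        exact inv_mem (zpow_mem (mem_zpowers g) i)
    have hNtop : normalizer (zpowers g : Set G) ≠ ⊤ := fun h => by
      rcases D.ctx.simple.eq_bot_or_eq_top_of_normal _ (normalizer_eq_top_iff.1 h) with h' | h'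
      · exact hg1 (zpowers_eq_bot.1 h')
      · refine D.ctx.ne_top (H := zpowers g) (fun r hr hd => Or.inl ?_) h'
        rw [Nat.card_zpowers, hk] at hd
        exact (Nat.prime_dvd_prime_iff_eq hr hpp.out).1 (hr.dvd_of_dvd_pow hd)
    have hHtop : H ≠ ⊤ := fun h => hNtop (eq_top_iff.2 (h ▸ hHN))
    have h2H : 2 ∣ Nat.card H := ht.symm.dvd.trans (by
      rw [← Nat.card_zpowers]; exact card_dvd_of_le le_sup_right)
    exact D.pgroup_of_odd (fun r hr hd => D.primes hHtop h2H r hr (hd.trans (card_dvd_of_le le_sup_left))) hCodd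
  obtain ⟨P, hP⟩ := hCp.exists_le_sylow
  have hgP : g ∈ (P : Subgroup G) := hP (mem_centralizer_singleton_iff.2 rfl)
  have hPeq : Cg = (P : Subgroup G) := le_antisymm hP fun a ha =>
    mem_centralizer_singleton_iff.2 (congrArg Subtype.val ((D.abP P).is_comm.comm ⟨a, ha⟩ ⟨g, hgP⟩))
  refine ⟨P, hgP, hPeq, (BSW.inverts_of_free (P : Subgroup G) htt
    (fun a ha => hPeq ▸ htN a (hPeq.symm ▸ ha)) fun a ha hc => ?_).1⟩
  by_contra ha1
  obtain ⟨l, hl⟩ := IsPGroup.iff_orderOf.1 P.2 ⟨a, ha⟩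
  rw [Subgroup.orderOf_mk] at hl
  obtain ⟨T', x', D', htT, hC⟩ := hIC t ht
  have haT := hC a (mem_centralizer_singleton_iff.2 hc.symm) ⟨l, hl⟩
  have hN := D'.central_case ⟨l, hl⟩ ha1 fun b hb => mem_centralizer_singleton_iff.2 (mem_centralizer_iff.1 haT b hb)
  have hgN : g ∈ normalizer ((T' : Subgroup G) : Set G) := hN (mem_centralizer_singleton_iff.2
    (congrArg Subtype.val ((D.abP P).is_comm.comm ⟨g, hgP⟩ ⟨a, ha⟩)))
  have h1 : g * t * g⁻¹ * t⁻¹ ∈ (T' : Subgroup G) := T'.1.mul_mem ((mem_normalizer_iff.1 hgN t).1 htT) (T'.1.inv_mem htT)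
  have h2 : g * t * g⁻¹ * t⁻¹ = g ^ 2 := by
    calc g * t * g⁻¹ * t⁻¹ = g * (t * g * t⁻¹)⁻¹ := by group
      _ = g ^ 2 := by rw [htg, inv_inv, pow_two]
  rw [h2] at h1
  have hcop : Disjoint (P : Subgroup G) (T' : Subgroup G) := IsPGroup.disjoint_of_ne p 2 D.ctx.hp2 _ _ P.2 T'.2
  have hg2 : g ^ 2 = 1 := disjoint_def.1 hcop (P.1.pow_mem hgP 2) h1
  rcases (Nat.dvd_prime Nat.prime_two).1 (orderOf_dvd_of_pow_eq_one hg2) with h | h
  · exact hg1 (orderOf_eq_one_iff.1 h)
  · exact hodd (h ▸ dvd_rfl)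

/-- Some `p`-element centralizes `T`: contradiction. -/
theorem false_of_central {z : G} (hz : ∃ k, orderOf z = p ^ k) (hz1 : z ≠ 1)
    (hT : (T : Subgroup G) ≤ centralizer ({z} : Set G)) : False := by
  have hIC : InvCentral (G := G) p G := by
    intro i hi
    obtain ⟨u, hu, huo⟩ := D.exists_involution
    obtain ⟨g, hg⟩ := D.isConj_involution hi hu (fun h => by rw [h, orderOf_one] at huo; omega)
    refine ⟨g • T, g * x * g⁻¹, D.conj g, ?_, fun y hy hyp => ?_⟩
    · rw [← hg, Sylow.coe_subgroup_smul]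
      exact smul_mem_pointwise_smul u (MulAut.conj g) _ hu
    set z' := g * z * g⁻¹ with hz'
    have hT' : ((g • T : Sylow 2 G) : Subgroup G) ≤ centralizer ({z'} : Set G) := by
      intro a ha
      rw [Sylow.coe_subgroup_smul, Subgroup.mem_pointwise_smul_iff_inv_smul_mem] at ha
      simp only [MulAut.smul_def, MulAut.inv_apply, MulAut.conj_symm_apply] at ha
      have h1 := mem_centralizer_singleton_iff.1 (hT ha)
      rw [mem_centralizer_singleton_iff, hz']
      calc a * (g * z * g⁻¹) = g * ((g⁻¹ * a * g) * z) * g⁻¹ := by group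
        _ = g * (z * (g⁻¹ * a * g)) * g⁻¹ := by rw [h1]
        _ = g * z * g⁻¹ * a := by group
    have hiT : i ∈ ((g • T : Sylow 2 G) : Subgroup G) := by
      rw [← hg, Sylow.coe_subgroup_smul]
      exact smul_mem_pointwise_smul u (MulAut.conj g) _ hu
    obtain ⟨K, -, hKp, -, hKmem, -⟩ := D.centralizer_involution hi
    have hzK : z' ∈ K := hKmem z' (mem_centralizer_singleton_iff.2
      (mem_centralizer_singleton_iff.1 (hT' hiT)).symm) (D.pElem_conj hz)
    obtain ⟨P, hP⟩ := hKp.exists_le_sylow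
    have hyN := (D.conj g).central_case (D.pElem_conj hz) (fun h => hz1 (conj_eq_one_iff.1 h)) hT'
      (mem_centralizer_singleton_iff.2 (congrArg Subtype.val
        ((D.abP P).is_comm.comm ⟨y, hP (hKmem y hy hyp)⟩ ⟨z', hP hzK⟩)))
    obtain ⟨k, hk⟩ := hyp
    exact D.fix_central (g • T).2 hyN hk hiT (fun h => by rw [h, orderOf_one] at hi; omega)
      (mem_centralizer_singleton_iff.1 hy)
  obtain ⟨t, -, ht⟩ := D.exists_involution
  obtain ⟨s, hs, hne⟩ := D.exists_noncommuting t ht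
  obtain ⟨-, P, -, -, hinv⟩ := D.pair hIC hs ht hne
  obtain ⟨k, hk⟩ := hz
  obtain ⟨P', hP'⟩ := (IsPGroup.of_card (G := zpowers z) (p := p) (n := k)
    (by rw [Nat.card_zpowers, hk])).exists_le_sylow
  obtain ⟨h, rfl⟩ := MulAction.exists_smul_eq G P P'
  have h1 := hP' (mem_zpowers z)
  rw [Sylow.coe_subgroup_smul, Subgroup.mem_pointwise_smul_iff_inv_smul_mem] at h1
  simp only [MulAut.smul_def, MulAut.inv_apply, MulAut.conj_symm_apply] at h1
  refine D.normal_of_centralizes ⟨k, hk⟩ hz1 hT (s := h * t * h⁻¹) ?_ ?_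
  · rw [show h * t * h⁻¹ = MulAut.conj h t from rfl, MulEquiv.orderOf_eq, ht]
  · calc h * t * h⁻¹ * z * (h * t * h⁻¹)⁻¹ = h * (t * (h⁻¹ * z * h) * t⁻¹) * h⁻¹ := by group
      _ = z⁻¹ := by rw [hinv _ h1]; group

/-- No `p`-element commutes with an involution: contradiction by counting. -/
theorem false_of_free (hno : ∀ i z : G, orderOf i = 2 → (∃ k, orderOf z = p ^ k) → i * z = z * i → z = 1) : False := by
  classical
  have hIC : InvCentral (G := G) p G := by
    intro i hi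
    obtain ⟨u, hu, huo⟩ := D.exists_involution
    obtain ⟨g, hg⟩ := D.isConj_involution hi hu (fun h => by rw [h, orderOf_one] at huo; omega)
    refine ⟨g • T, g * x * g⁻¹, D.conj g, ?_, fun y hy hyp => ?_⟩
    · rw [← hg, Sylow.coe_subgroup_smul]
      exact smul_mem_pointwise_smul u (MulAut.conj g) _ hu
    · rw [hno i y hi hyp (mem_centralizer_singleton_iff.1 hy).symm]
      exact one_mem _
  obtain ⟨t, -, ht⟩ := D.exists_involution
  have ht1 : t ≠ 1 := fun h => by rw [h, orderOf_one] at ht; omega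
  have htt : t * t = 1 := by rw [← pow_two, ← ht, pow_orderOf_eq_one]
  have hti : t⁻¹ = t := inv_eq_of_mul_eq_one_right htt
  obtain ⟨T', x', D', htT, -⟩ := hIC t ht
  set K := centralizer ({t} : Set G) with hK
  have hKT : K = (T' : Subgroup G) := by
    obtain ⟨K', hK'le, hK'p, -, -, j, hj⟩ := D.centralizer_involution ht
    have hK' : K' = ⊥ := (Subgroup.eq_bot_iff_forall _).2 fun a ha => by
      obtain ⟨l, hl⟩ := IsPGroup.iff_orderOf.1 hK'p ⟨a, ha⟩
      exact hno t a ht ⟨l, by rw [← hl, Subgroup.orderOf_mk]⟩ (mem_centralizer_singleton_iff.1 (hK'le ha)).symm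
    rw [hK', card_bot, one_mul] at hj
    exact T'.3 (IsPGroup.of_card hj) fun a ha => mem_centralizer_singleton_iff.2 (D'.comm ha htT)
  have hKc : Nat.card K = p + 1 := by rw [hKT]; exact D'.card_T
  have hKp : ¬ p ∣ Nat.card K := by
    rw [hKc]
    exact fun hd => hpp.out.ne_one (Nat.dvd_one.1 ((Nat.dvd_add_right dvd_rfl).1 hd))
  set I : Set G := {s | orderOf s = 2} with hI
  have hIp : p ∣ I.ncard := by
    obtain ⟨z, hz⟩ := exists_prime_orderOf_dvd_card' (G := G) p D.ctx.hyp.pG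
    have h := CyclicSylowAbelian.ncard_modEq_fixed (show z ^ p ^ 1 = 1 by rw [pow_one, ← hz, pow_orderOf_eq_one]) I
      fun s hs => (MulEquiv.orderOf_eq (MulAut.conj z) s).trans hs
    rw [show {a ∈ I | z * a = a * z} = (∅ : Set G) from Set.eq_empty_iff_forall_notMem.2 fun a ⟨ha, hc⟩ => by
      rw [hno a z ha ⟨1, by rw [hz, pow_one]⟩ hc.symm, orderOf_one] at hz
      exact hpp.out.ne_one hz.symm, Set.ncard_empty] at h
    exact Nat.modEq_zero_iff_dvd.1 h
  have hKI : (I ∩ (K : Set G)).ncard = p := by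
    have heq : I ∩ (K : Set G) = ((T' : Subgroup G) : Set G) \ {1} := by
      ext a
      rw [hKT]
      constructor
      · rintro ⟨ha, haT⟩
        exact ⟨haT, fun h => by
          rw [Set.mem_singleton_iff] at h
          change orderOf a = 2 at ha
          rw [h, orderOf_one] at ha
          omega⟩
      · rintro ⟨haT, ha⟩
        exact ⟨orderOf_eq_prime (by rw [pow_two]; exact D'.sq haT) ha, haT⟩
    rw [heq, Set.ncard_sdiff_singleton_of_mem (T' : Subgroup G).one_mem, ← Nat.card_coe_set_eq]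
    change Nat.card (T' : Subgroup G) - 1 = p
    rw [D'.card_T]
    omega
  let St := {Q : Sylow p G // ∀ a ∈ (Q : Subgroup G), t * a * t⁻¹ = a⁻¹}
  obtain ⟨s₀, hs₀, hne₀⟩ := D.exists_noncommuting t ht
  obtain ⟨-, Q₀, -, -, hQ₀⟩ := D.pair hIC hs₀ ht hne₀
  have hcentQ : ∀ Q : St, ∀ a ∈ (Q.1 : Subgroup G), a ≠ 1 →
      centralizer ({a} : Set G) = (Q.1 : Subgroup G) := by
    rintro ⟨Q, hQ⟩ a ha ha1
    obtain ⟨k, hk⟩ := IsPGroup.iff_orderOf.1 Q.2 ⟨a, ha⟩
    rw [Subgroup.orderOf_mk] at hk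
    have hk2 : ¬ a * a = 1 := fun h => ha1 (orderOf_eq_one_iff.1 (Nat.eq_one_of_dvd_coprimes
      (((Nat.coprime_primes Nat.prime_two hpp.out).2 (Ne.symm D.ctx.hp2)).pow_right k)
      (orderOf_dvd_of_pow_eq_one (by rw [pow_two, h])) hk.dvd))
    have hat := hQ a ha
    have hs : orderOf (a * t) = 2 := by
      refine orderOf_eq_prime ?_ fun h => ?_
      · calc (a * t) ^ 2 = a * (t * a * t⁻¹) * (t * t) := by rw [pow_two]; group
          _ = 1 := by rw [hat, htt, mul_inv_cancel, one_mul]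
      · rw [mul_eq_one_iff_eq_inv, hti] at h
        exact hk2 (by rw [h, htt])
    have hne : a * t * t ≠ t * (a * t) := fun h => hk2 (by
      have e : a = a⁻¹ := by
        calc a = a * t * t := by rw [mul_assoc, htt, mul_one]
          _ = t * (a * t) := h
          _ = a⁻¹ := by rw [← hat, hti, mul_assoc]
      nth_rewrite 2 [e]
      exact mul_inv_cancel a)
    obtain ⟨-, P, haP, hP, -⟩ := D.pair hIC hs ht hne
    rw [mul_assoc, htt, mul_one] at haP hP
    have hQP : (Q : Subgroup G) ≤ P := hP ▸ fun b hb =>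
      mem_centralizer_singleton_iff.2 (congrArg Subtype.val ((D.abP Q).is_comm.comm ⟨b, hb⟩ ⟨a, ha⟩))
    rw [hP]
    exact Q.3 P.2 hQP
  letI : MulAction K (Sylow p G) := MulAction.compHom _ K.subtype
  have htrans : ∀ Q : St, Q.1 ∈ MulAction.orbit K Q₀ := by
    rintro ⟨Q, hQ⟩
    obtain ⟨h, hh⟩ := MulAction.exists_smul_eq G Q₀ Q
    subst hh
    set t' := h * t * h⁻¹ with ht'
    have ht'inv : ∀ a ∈ ((h • Q₀ : Sylow p G) : Subgroup G), t' * a * t'⁻¹ = a⁻¹ := by
      intro a ha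
      rw [Sylow.coe_subgroup_smul, Subgroup.mem_pointwise_smul_iff_inv_smul_mem] at ha
      simp only [MulAut.smul_def, MulAut.inv_apply, MulAut.conj_symm_apply] at ha
      calc t' * a * t'⁻¹ = h * (t * (h⁻¹ * a * h) * t⁻¹) * h⁻¹ := by rw [ht']; group
        _ = a⁻¹ := by rw [hQ₀ _ ha]; group
    obtain ⟨z₀, hz₀⟩ := exists_prime_orderOf_dvd_card' (G := ((h • Q₀ : Sylow p G) : Subgroup G)) p
      ((h • Q₀).dvd_card_of_dvd_card D.ctx.hyp.pG)
    rw [← Subgroup.orderOf_coe] at hz₀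
    have hz₀1 : (z₀ : G) ≠ 1 := fun h1 => by rw [h1, orderOf_one] at hz₀; exact hpp.out.ne_one hz₀.symm
    have hzC : t⁻¹ * t' ∈ ((h • Q₀ : Sylow p G) : Subgroup G) := by
      rw [← hcentQ ⟨_, hQ⟩ _ z₀.2 hz₀1, mem_centralizer_singleton_iff, ← mul_inv_eq_iff_eq_mul]
      calc t⁻¹ * t' * (z₀ : G) * (t⁻¹ * t')⁻¹ = t * (t' * (z₀ : G) * t'⁻¹) * t⁻¹ := by
            rw [mul_inv_rev, inv_inv, hti]; group
        _ = (z₀ : G) := by rw [ht'inv _ z₀.2, hQ _ (inv_mem z₀.2), inv_inv]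
    set z := t⁻¹ * t'
    obtain ⟨j, hj⟩ : Odd (orderOf z) := by
      obtain ⟨j, hj⟩ := (h • Q₀).2 ⟨z, hzC⟩
      exact Odd.of_dvd_nat ((Nat.Prime.odd_of_ne_two hpp.out D.ctx.hp2).pow)
        (orderOf_dvd_of_pow_eq_one (show z ^ p ^ j = 1 by simpa using congrArg Subtype.val hj))
    set w := z ^ (j + 1) with hw
    have hwQ : w ∈ ((h • Q₀ : Sylow p G) : Subgroup G) := Subgroup.pow_mem _ hzC _
    have hw2 : w * w = z := by
      rw [hw, ← pow_add, show j + 1 + (j + 1) = orderOf z + 1 by omega, pow_succ, pow_orderOf_eq_one, one_mul]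
    have e' : w * t = t * w⁻¹ := by
      rw [← hQ w hwQ]
      calc w * t = (t * t) * w * t := by rw [htt, one_mul]
        _ = t * (t * w * t⁻¹) := by rw [hti]; group
    have hconj : w * t' * w⁻¹ = t := by
      have ht'' : t' = t * (w * w) := by rw [hw2, mul_inv_cancel_left]
      calc w * t' * w⁻¹ = (w * t) * w := by rw [ht'']; group
        _ = t := by rw [e']; group
    refine ⟨⟨w * h, mem_centralizer_singleton_iff.2 ?_⟩, ?_⟩
    · calc w * h * t = (w * (h * t * h⁻¹) * w⁻¹) * (w * h) := by group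
        _ = t * (w * h) := by rw [← ht', hconj]
    · change (w * h) • Q₀ = h • Q₀
      rw [← smul_smul]
      exact Sylow.smul_eq_iff_mem_normalizer.2 (le_normalizer hwQ)
  have horb : ∀ Q : Sylow p G, Q ∈ MulAction.orbit K Q₀ → ∀ a ∈ (Q : Subgroup G), t * a * t⁻¹ = a⁻¹ := by
    rintro _ ⟨⟨k, hk⟩, rfl⟩ a ha
    change a ∈ ((k • Q₀ : Sylow p G) : Subgroup G) at ha
    rw [Sylow.coe_subgroup_smul, Subgroup.mem_pointwise_smul_iff_inv_smul_mem] at ha
    simp only [MulAut.smul_def, MulAut.inv_apply, MulAut.conj_symm_apply] at ha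
    have hkt : k * t = t * k := mem_centralizer_singleton_iff.1 hk
    calc t * a * t⁻¹ = (t * k) * (k⁻¹ * a * k) * (t * k)⁻¹ := by group
      _ = k * (t * (k⁻¹ * a * k) * t⁻¹) * k⁻¹ := by rw [← hkt]; group
      _ = a⁻¹ := by rw [hQ₀ _ ha]; group
  have hStp : ¬ p ∣ Nat.card St := fun hd => hKp (hd.trans (by
    rw [Nat.card_congr (Equiv.subtypeEquivRight (p := fun Q : Sylow p G => ∀ a ∈ (Q : Subgroup G), t * a * t⁻¹ = a⁻¹)
      (q := fun Q => Q ∈ MulAction.orbit K Q₀) fun Q => ⟨fun h => htrans ⟨Q, h⟩, horb Q⟩)]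
    exact ⟨Nat.card (MulAction.stabilizer K Q₀), by
      rw [← Nat.card_congr (MulAction.orbitProdStabilizerEquivGroup K Q₀), Nat.card_prod]⟩))
  set N : Set G := {s | s ∈ I ∧ s * t ≠ t * s} with hN
  obtain ⟨j, hj⟩ := (default : Sylow p G).2.exists_card_eq
  have hj0 : j ≠ 0 := fun h => by
    have h1 := (default : Sylow p G).dvd_card_of_dvd_card D.ctx.hyp.pG
    rw [hj, h, pow_zero] at h1
    exact hpp.out.ne_one (Nat.dvd_one.1 h1)
  have hNcard : N.ncard = Nat.card St * (p ^ j - 1) := by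
    have hbij : Nat.card (Σ Q : St, {g : G // g ∈ (Q.1 : Subgroup G) ∧ g ≠ 1}) = N.ncard := by
      rw [← Nat.card_coe_set_eq]
      refine Nat.card_congr (Equiv.ofBijective (fun a => ⟨a.2.1 * t, ?_⟩) ⟨?_, ?_⟩)
      · obtain ⟨⟨Q, hQ⟩, g, hgQ, hg1⟩ := a
        change g * t ∈ N
        have hg2 : ¬ g * g = 1 := fun h => by
          obtain ⟨i, hi⟩ := Q.2 ⟨g, hgQ⟩
          exact hg1 (orderOf_eq_one_iff.1 (Nat.eq_one_of_dvd_coprimes
            (((Nat.coprime_primes Nat.prime_two hpp.out).2 (Ne.symm D.ctx.hp2)).pow_right i)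
            (orderOf_dvd_of_pow_eq_one (show g ^ 2 = 1 by rw [pow_two]; exact h))
            (orderOf_dvd_of_pow_eq_one (by simpa using congrArg Subtype.val hi))))
        refine ⟨orderOf_eq_prime ?_ ?_, ?_⟩
        · calc (g * t) ^ 2 = g * (t * g * t⁻¹) * (t * t) := by rw [pow_two]; group
            _ = 1 := by rw [hQ g hgQ, htt, mul_inv_cancel, one_mul]
        · intro h
          rw [mul_eq_one_iff_eq_inv, hti] at h
          exact hg2 (h ▸ htt)
        · intro h
          have e : g = g⁻¹ := by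
            calc g = g * t * t := by rw [mul_assoc, htt, mul_one]
              _ = t * (g * t) := h
              _ = g⁻¹ := by rw [← hQ g hgQ, hti, mul_assoc]
          exact hg2 (by nth_rewrite 2 [e]; exact mul_inv_cancel g)
      · rintro ⟨Q, g, hgQ, hg1⟩ ⟨Q', g', hgQ', hg1'⟩ h
        obtain rfl : g = g' := mul_right_cancel (congrArg Subtype.val h)
        obtain rfl : Q = Q' := Subtype.ext (Sylow.ext ((hcentQ Q g hgQ hg1).symm.trans (hcentQ Q' g hgQ' hg1)))
        rfl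
      · rintro ⟨s, hs, hne⟩
        obtain ⟨hst1, Q, hgQ, -, hQ⟩ := D.pair hIC hs ht hne
        refine ⟨⟨⟨Q, hQ⟩, ⟨s * t, hgQ, hst1⟩⟩, Subtype.ext ?_⟩
        change s * t * t = s
        rw [mul_assoc, htt, mul_one]
    haveI : Fintype St := Fintype.ofFinite _
    rw [← hbij, Nat.card_sigma, Finset.sum_const_nat (m := p ^ j - 1) fun Q _ => ?_, Finset.card_univ,
      Nat.card_eq_fintype_card]
    rw [BSW.card_ne_one, Nat.card_congr (Q.1.equiv default).toEquiv, hj]
  have hsplit : I.ncard = (I ∩ (K : Set G)).ncard + N.ncard := by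
    rw [← Set.ncard_union_eq ?_ (Set.toFinite _) (Set.toFinite _)]
    · congr 1
      ext s
      constructor
      · intro hs
        by_cases hc : s * t = t * s
        · exact Or.inl ⟨hs, mem_centralizer_singleton_iff.2 hc⟩
        · exact Or.inr ⟨hs, hc⟩
      · rintro (h | h) <;> exact h.1
    · exact Set.disjoint_left.2 fun s h1 h2 => h2.2 (mem_centralizer_singleton_iff.1 h1.2)
  rw [hsplit, hKI, Nat.dvd_add_right dvd_rfl, hNcard] at hIp
  rcases hpp.out.dvd_mul.1 hIp with h | h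
  · exact hStp h
  · have h2 := Nat.dvd_sub (dvd_pow_self p hj0) h
    rw [Nat.sub_sub_self (Nat.one_le_pow _ _ hpp.out.pos)] at h2
    exact hpp.out.ne_one (Nat.dvd_one.1 h2)

end Data

end Cfsg.Agent.LargePrime
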