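/-
The case in which some `p`-element commutes with an involution, but none centralizes a Sylow 2-subgroup
moved by a `p`-element: then `p = 3`, the Sylow 2-subgroup has order 4 and S4018 applies.

Main result (namespace `Cfsg.Agent.LargePrime`): `Data.false_of_fixing`.
-/
import Cfsg.Agent.Lib.LargePrimeMixed.Main
import Cfsg.Agent.S4018

set_option autoImplicit false

namespace Cfsg.Agent.LargePrime

open Subgroup

variable {G : Type*} [Group G] {p : ℕ}

/-- A `p`-element normalizing a Sylow `p`-subgroup lies in it. -/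
theorem mem_of_mem_normalizer [hpp : Fact p.Prime] (P : Sylow p G) {g : G} (hg : ∃ k, orderOf g = p ^ k)
    (hgN : g ∈ normalizer ((P : Subgroup G) : Set G)) : g ∈ (P : Subgroup G) := by
  obtain ⟨k, hk⟩ := hg
  have h := IsPGroup.to_sup_of_normal_right' (IsPGroup.of_card (G := zpowers g) (p := p) (n := k)
    (by rw [Nat.card_zpowers, hk])) P.2 (zpowers_le.2 hgN)
  exact (P.3 h le_sup_right).le (mem_sup_left (mem_zpowers g))

theorem exists_eq_pow_of_pow_eq_one [hpp : Fact p.Prime] {g : G} {k : ℕ} (h : g ^ p ^ k = 1) :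
    ∃ i, orderOf g = p ^ i := by
  obtain ⟨i, -, hi⟩ := (Nat.dvd_prime_pow hpp.out).1 (orderOf_dvd_of_pow_eq_one h)
  exact ⟨i, hi⟩

theorem pElem_of_mem [hpp : Fact p.Prime] {P : Subgroup G} (hP : IsPGroup p P) {g : G} (hg : g ∈ P) :
    ∃ i, orderOf g = p ^ i := by
  obtain ⟨k, hk⟩ := hP ⟨g, hg⟩
  exact exists_eq_pow_of_pow_eq_one (by simpa using congrArg Subtype.val hk)

namespace Data

variable [Finite G] [hpp : Fact p.Prime] [h2f : Fact (Nat.Prime 2)] {T : Sylow 2 G} {x : G} (D : Data p T x)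
include D

/-- A `p`-element commuting with an involution lies in a unique Sylow `p`-subgroup, normalized by its centralizer. -/
theorem sylow_local {i w : G} (hi : orderOf i = 2) (hw : ∃ k, orderOf w = p ^ k) (hw1 : w ≠ 1)
    (hc : i * w = w * i) (P : Sylow p G) (hwP : w ∈ (P : Subgroup G)) :
    centralizer ({w} : Set G) ≤ normalizer ((P : Subgroup G) : Set G) ∧
      ∀ Q : Sylow p G, w ∈ (Q : Subgroup G) → Q = P := by
  obtain ⟨K, -, hKp, hKn, hKmem, -⟩ := D.compl_of_no_mover (D.centralizer_ne_top hw1)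
    (two_mem_centralizer_dvd hi hc) (by
      intro R hR hRH y hy hyN ⟨k, hk⟩
      by_contra hn
      obtain ⟨hRc, -, hfree⟩ := move_data D.ctx.hpq D.ctx.hyp hR hyN hk hn
      obtain ⟨T', hT'⟩ := hR.exists_le_sylow
      have heq : R = (T' : Subgroup G) :=
        eq_of_le_of_card_ge hT' (by rw [hRc, T'.card_eq_multiplicity])
      subst heq
      exact (⟨D.ctx, D.pa, D.abP, hyN, ⟨k, hk⟩, hfree⟩ : Data p T' y).false_of_central hw hw1 hRH)
  have hle : ∀ Q : Sylow p G, w ∈ (Q : Subgroup G) → K = (Q : Subgroup G) := fun Q hwQ =>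
    Q.3 hKp fun a ha => hKmem a
      (mem_centralizer_singleton_iff.2 (congrArg Subtype.val ((D.abP Q).is_comm.comm ⟨a, ha⟩ ⟨w, hwQ⟩)))
      (pElem_of_mem Q.2 ha)
  refine ⟨hle P hwP ▸ hKn, fun Q hwQ => Sylow.ext ?_⟩
  rw [← hle P hwP, ← hle Q hwQ]

/-- Conjugates of a Sylow `p`-subgroup meeting it in an element commuting with an involution. -/
theorem normalizes_of_conj_mem {i w g : G} (hi : orderOf i = 2) (hw1 : w ≠ 1)
    (P : Sylow p G) (hwP : w ∈ (P : Subgroup G)) (hgP : g * w * g⁻¹ ∈ (P : Subgroup G))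
    (hc : i * (g * w * g⁻¹) = g * w * g⁻¹ * i) : g ∈ normalizer ((P : Subgroup G) : Set G) := by
  refine Sylow.smul_eq_iff_mem_normalizer.1 ((D.sylow_local hi (pElem_of_mem P.2 hgP)
    (fun h => hw1 (conj_eq_one_iff.1 h)) hc P hgP).2 (g • P) ?_)
  rw [Sylow.coe_subgroup_smul]
  exact smul_mem_pointwise_smul w (MulAut.conj g) _ hwP

/-- Some `p`-element commutes with an involution of `T`: contradiction. -/
theorem false_of_fixing {t z : G} (htT : t ∈ (T : Subgroup G)) (ht : orderOf t = 2) (hz : ∃ k, orderOf z = p ^ k)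
    (hz1 : z ≠ 1) (hc : t * z = z * t) : False := by
  classical
  have ht1 : t ≠ 1 := fun h => by rw [h, orderOf_one] at ht; omega
  have hord : ∀ u ∈ (T : Subgroup G), u ≠ 1 → orderOf u = 2 := fun u hu hu1 =>
    orderOf_eq_prime (by rw [pow_two]; exact D.sq hu) hu1
  have hinvT : ∀ u ∈ (T : Subgroup G), u⁻¹ = u := fun u hu => inv_eq_of_mul_eq_one_right (D.sq hu)
  obtain ⟨K, hKle, hKp, hKn, hKmem, -⟩ := D.centralizer_involution ht
  obtain ⟨P, hKP⟩ := hKp.exists_le_sylow
  have hzK : z ∈ K := hKmem z (mem_centralizer_singleton_iff.2 hc.symm) hz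
  have hPcomm : ∀ a ∈ (P : Subgroup G), ∀ b ∈ (P : Subgroup G), a * b = b * a := fun a ha b hb =>
    congrArg Subtype.val ((D.abP P).is_comm.comm ⟨a, ha⟩ ⟨b, hb⟩)
  have hTC : ∀ a ∈ (T : Subgroup G), a ∈ centralizer ({t} : Set G) := fun a ha =>
    mem_centralizer_singleton_iff.2 (D.comm ha htT)
  have hTN : ∀ a ∈ (T : Subgroup G), a ∈ normalizer ((P : Subgroup G) : Set G) := by
    intro a ha
    have hK' : a * z * a⁻¹ ∈ K := (mem_normalizer_iff.1 (hKn (hTC a ha)) z).1 hzK
    exact D.normalizes_of_conj_mem ht hz1 P (hKP hzK) (hKP hK')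
      (mem_centralizer_singleton_iff.1 (hKle hK')).symm
  have hdisj : Disjoint (P : Subgroup G) (T : Subgroup G) := IsPGroup.disjoint_of_ne p 2 D.ctx.hp2 _ _ P.2 T.2
  -- involutions of `T` other than `t` invert `P`
  have hinv : ∀ u ∈ (T : Subgroup G), u ≠ 1 → u ≠ t → ∀ a ∈ (P : Subgroup G), u * a * u⁻¹ = a⁻¹ := by
    intro u hu hu1 hut
    refine (BSW.inverts_of_free (P : Subgroup G) (D.sq hu)
      (fun a ha => (mem_normalizer_iff.1 (hTN u hu) a).1 ha) fun a ha hua => ?_).1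
    by_contra ha1
    obtain ⟨n, hn⟩ := D.orbit htT hu ht1 hu1
    set y := x ^ n * z * (x ^ n)⁻¹ with hy
    have hy1 : y ≠ 1 := fun h => hz1 (conj_eq_one_iff.1 h)
    have huy : u * y = y * u := by
      rw [← hn, hy]
      calc x ^ n * t * (x ^ n)⁻¹ * (x ^ n * z * (x ^ n)⁻¹) = x ^ n * (t * z) * (x ^ n)⁻¹ := by group
        _ = x ^ n * (z * t) * (x ^ n)⁻¹ := by rw [hc]
        _ = x ^ n * z * (x ^ n)⁻¹ * (x ^ n * t * (x ^ n)⁻¹) := by group
    obtain ⟨Ku, -, hKup, -, hKumem, -⟩ := D.centralizer_involution (hord u hu hu1)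
    obtain ⟨Pu, hPu⟩ := hKup.exists_le_sylow
    have hyK : y ∈ Ku := hKumem y (mem_centralizer_singleton_iff.2 huy.symm) (D.pElem_conj hz)
    have haK : a ∈ Ku := hKumem a (mem_centralizer_singleton_iff.2 hua.symm) (pElem_of_mem P.2 ha)
    obtain rfl : Pu = P := (D.sylow_local (hord u hu hu1) (pElem_of_mem P.2 ha) ha1 hua P ha).2 Pu (hPu haK)
    have hxn : x ^ n ∈ (Pu : Subgroup G) := by
      refine mem_of_mem_normalizer Pu ?_ (D.normalizes_of_conj_mem (hord u hu hu1) hz1 Pu (hKP hzK) (hPu hyK) huy)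
      obtain ⟨k, hk⟩ := D.xpow
      exact exists_eq_pow_of_pow_eq_one (k := k)
        (by rw [← pow_mul, mul_comm, pow_mul, ← hk, pow_orderOf_eq_one, one_pow])
    have h1 : u * t⁻¹ ∈ (Pu : Subgroup G) := by
      rw [← hn, show x ^ n * t * (x ^ n)⁻¹ * t⁻¹ = x ^ n * (t * (x ^ n)⁻¹ * t⁻¹) by group]
      exact Pu.1.mul_mem hxn ((mem_normalizer_iff.1 (hTN t htT) _).1 (inv_mem hxn))
    exact hut (mul_inv_eq_one.1 (disjoint_def.1 hdisj h1 (T.1.mul_mem hu (T.1.inv_mem htT))))
  have hnoself : ∀ a ∈ (P : Subgroup G), a⁻¹ = a → a = 1 := by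
    intro a ha h
    obtain ⟨k, hk⟩ := pElem_of_mem P.2 ha
    exact orderOf_eq_one_iff.1 (Nat.eq_one_of_dvd_coprimes
      (((Nat.coprime_primes Nat.prime_two hpp.out).2 (Ne.symm D.ctx.hp2)).pow_right k)
      (orderOf_dvd_of_pow_eq_one (by rw [pow_two]; nth_rewrite 1 [← h]; exact inv_mul_cancel a)) hk.dvd)
  -- the product of two inverting elements centralizes
  have hmul : ∀ u v : G, (∀ a ∈ (P : Subgroup G), u * a * u⁻¹ = a⁻¹) → (∀ a ∈ (P : Subgroup G), v * a * v⁻¹ = a⁻¹) →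
      ∀ a ∈ (P : Subgroup G), u * v * a * (u * v)⁻¹ = a := by
    intro u v hu hv a ha
    calc u * v * a * (u * v)⁻¹ = u * (v * a * v⁻¹) * u⁻¹ := by group
      _ = a := by rw [hv a ha, hu _ (inv_mem ha), inv_inv]
  obtain ⟨u, hu, hu1, hut⟩ : ∃ u ∈ (T : Subgroup G), u ≠ 1 ∧ u ≠ t := by
    by_contra hh
    push Not at hh
    have hsub : ((T : Subgroup G) : Set G) ⊆ (({1, t} : Finset G) : Set G) := fun a ha => by
      by_cases ha1 : a = 1
      · simp [ha1]
      · have h' := hh a ha ha1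
        simp [h']
    have h1 := Set.ncard_le_ncard hsub (Finset.finite_toSet _)
    rw [← Nat.card_coe_set_eq, Set.ncard_coe_finset] at h1
    have h2 : ({1, t} : Finset G).card ≤ 2 := Finset.card_le_two
    have h3 := D.card_T
    have h4 := D.three_le
    change Nat.card (T : Subgroup G) ≤ _ at h1
    omega
  have hut_mem : u * t ∈ (T : Subgroup G) := T.1.mul_mem hu htT
  have hut1 : u * t ≠ 1 := fun h => hut (by rw [mul_eq_one_iff_eq_inv, hinvT t htT] at h; exact h)
  have hutt : u * t ≠ t := fun h => hu1 (mul_eq_right.1 h)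
  have hui := hinv u hu hu1 hut
  -- `t` centralizes `P`
  have htP : ∀ a ∈ (P : Subgroup G), t * a * t⁻¹ = a := by
    intro a ha
    have h := hmul u (u * t) hui (hinv _ hut_mem hut1 hutt) a ha
    rwa [← mul_assoc u u t, D.sq hu, one_mul] at h
  -- hence `|T| = 4`
  have hp3 : p = 3 := by
    by_contra hp3
    obtain ⟨v, hv, hv1, hvt, hvu, hvut⟩ : ∃ v ∈ (T : Subgroup G), v ≠ 1 ∧ v ≠ t ∧ v ≠ u ∧ v ≠ u * t := by
      by_contra hh
      push Not at hh
      have hsub : ((T : Subgroup G) : Set G) ⊆ (({1, t, u, u * t} : Finset G) : Set G) := fun a ha => by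
        by_cases ha1 : a = 1
        · simp [ha1]
        by_cases hat : a = t
        · simp [hat]
        by_cases hau : a = u
        · simp [hau]
        have h' := hh a ha ha1 hat hau
        simp [h']
      have h1 := Set.ncard_le_ncard hsub (Finset.finite_toSet _)
      rw [← Nat.card_coe_set_eq, Set.ncard_coe_finset] at h1
      have h2 : ({1, t, u, u * t} : Finset G).card ≤ 4 := Finset.card_le_four
      have h3 := D.card_T
      have h4 := D.three_le
      change Nat.card (T : Subgroup G) ≤ _ at h1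
      omega
    have hvu1 : v * u ≠ 1 := fun h => hvu (by rw [mul_eq_one_iff_eq_inv, hinvT u hu] at h; exact h)
    have hvut' : v * u ≠ t := fun h => hvut (by
      rw [← h, D.comm hu (T.1.mul_mem hv hu), mul_assoc, D.sq hu, mul_one])
    have hzP : z ∈ (P : Subgroup G) := hKP hzK
    refine hz1 (hnoself z hzP ?_)
    rw [← hinv (v * u) (T.1.mul_mem hv hu) hvu1 hvut' z hzP, hmul v u (hinv v hv hv1 hvt) hui z hzP]
  subst hp3
  -- S4018 applies to `P`
  set m := Nat.card (P : Subgroup G) with hm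
  have hPK : K = (P : Subgroup G) := le_antisymm hKP fun a ha => hKmem a
    (mem_centralizer_singleton_iff.2 (mul_inv_eq_iff_eq_mul.1 (htP a ha)).symm) (pElem_of_mem P.2 ha)
  have hCtN : centralizer ({t} : Set G) ≤ normalizer ((P : Subgroup G) : Set G) := hPK ▸ hKn
  have hcardT : Nat.card (T : Subgroup G) = 4 := D.card_T
  have heven : ∀ H : Subgroup G, H ≠ ⊤ → 2 ∣ Nat.card H → Nat.card H ∣ 4 * m := by
    intro H hH h2
    have hm0 : m ≠ 0 := Nat.card_pos.ne'
    refine (Nat.factorization_prime_le_iff_dvd Nat.card_pos.ne' (by omega)).1 fun r hr => ?_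
    have hle := factorization_mono (q := r) (Nat.card_pos (α := G)).ne' (card_subgroup_dvd_card H)
    by_cases hrH : r ∣ Nat.card H
    · refine hle.trans ((Nat.Prime.pow_dvd_iff_le_factorization hr (by omega)).1 ?_)
      rcases D.primes hH h2 r hr hrH with rfl | rfl
      · rw [← P.card_eq_multiplicity]; exact Dvd.intro_left 4 rfl
      · rw [← T.card_eq_multiplicity, hcardT]; exact Dvd.intro m rfl
    · rw [Nat.factorization_eq_zero_of_not_dvd hrH]; exact Nat.zero_le _
  set N := normalizer ((P : Subgroup G) : Set G) with hNdef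
  set C := centralizer ((P : Subgroup G) : Set G) with hCdef
  have htC : t ∈ C := mem_centralizer_iff.2 fun a ha => (mul_inv_eq_iff_eq_mul.1 (htP a ha)).symm
  have hPC : (P : Subgroup G) ≤ C := fun a ha => mem_centralizer_iff.2 fun b hb => hPcomm b hb a ha
  have hCN : C ≤ N := centralizer_le_normalizer _
  have hP1 : (P : Subgroup G) ≠ ⊥ := P.ne_bot_of_dvd_card D.ctx.hyp.pG
  have hPtop : (P : Subgroup G) ≠ ⊤ := D.ctx.ne_top fun r hr hd => Or.inl (by
    obtain ⟨j, hj⟩ := P.2.exists_card_eq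
    exact (Nat.prime_dvd_prime_iff_eq hr hpp.out).1 (hr.dvd_of_dvd_pow (hj ▸ hd)))
  have hNtop : N ≠ ⊤ := fun h => by
    rcases D.ctx.simple.eq_bot_or_eq_top_of_normal _ (normalizer_eq_top_iff.1 h) with h' | h'
    · exact hP1 h'
    · exact hPtop h'
  have h4N : 4 ∣ Nat.card N := hcardT ▸ card_dvd_of_le (fun a ha => hTN a ha : (T : Subgroup G) ≤ N)
  have hodd : Nat.Coprime 2 m := by
    obtain ⟨j, hj⟩ := P.2.exists_card_eq
    rw [hm, hj]
    exact Nat.Coprime.pow_right j (by norm_num)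
  have h2C : 2 ∣ Nat.card C :=
    ht.symm.dvd.trans ((Subgroup.orderOf_coe (⟨t, htC⟩ : C)).dvd.trans (orderOf_dvd_natCard _))
  have hN : Nat.card N = 4 * m := Nat.dvd_antisymm (heven N hNtop ((show 2 ∣ 4 by norm_num).trans h4N))
    (Nat.Coprime.mul_dvd_of_dvd_of_dvd (show Nat.Coprime (2 ^ 2) m from hodd.pow_left 2) h4N
      (card_dvd_of_le (hPC.trans hCN)))
  have hC : Nat.card C = 2 * m := by
    obtain ⟨k, hk⟩ := Nat.Coprime.mul_dvd_of_dvd_of_dvd hodd h2C (card_dvd_of_le hPC)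
    have h2 : k ∣ 2 := by
      have h1 := hk ▸ hN ▸ card_dvd_of_le hCN
      rw [show 4 * m = 2 * m * 2 by ring] at h1
      exact Nat.dvd_of_mul_dvd_mul_left (Nat.mul_pos two_pos Nat.card_pos) h1
    rcases (Nat.dvd_prime Nat.prime_two).1 h2 with rfl | rfl
    · rw [hk, mul_one]
    · exfalso
      have heq : C = N := eq_of_le_of_card_ge hCN (by rw [hk, hN]; omega)
      have huC : u ∈ C := heq ▸ hTN u hu
      refine hz1 (hnoself z (hKP hzK) ?_)
      rw [← hui z (hKP hzK), mul_inv_eq_iff_eq_mul]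
      exact (mem_centralizer_iff.1 huC z (hKP hzK)).symm
  have hidx : ((P : Subgroup G).subgroupOf C).index = 2 := by
    have h1 := ((P : Subgroup G).subgroupOf C).card_mul_index
    rw [Nat.card_congr (subgroupOfEquivOfLe hPC).toEquiv, hC, mul_comm 2] at h1
    exact Nat.eq_of_mul_eq_mul_left Nat.card_pos h1
  have hsq1 : ∀ c ∈ C, c ^ 2 = 1 → c ≠ 1 → c = t := by
    intro c hc hc2 hc1
    have hnot : ∀ d ∈ (P : Subgroup G), d ^ 2 = 1 → d = 1 := fun d hd h =>
      hnoself d hd (inv_eq_of_mul_eq_one_right (by rw [← pow_two, h]))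
    have hct : c * t ∈ (P : Subgroup G) :=
      (Subgroup.mul_mem_iff_of_index_two hidx (a := (⟨c, hc⟩ : C)) (b := ⟨t, htC⟩)).2
        (iff_of_false (fun h => hc1 (hnot c h hc2)) fun h => ht1 (hnot t h (by rw [← ht, pow_orderOf_eq_one])))
    have hcomm : Commute c t := by
      have h1 := mul_inv_eq_iff_eq_mul.1 (htP _ hct)
      exact mul_right_cancel (h1.symm.trans (mul_assoc t c t).symm)
    have h2 := hnot _ hct (by rw [hcomm.mul_pow, hc2, ← ht, pow_orderOf_eq_one, one_mul])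
    rwa [mul_eq_one_iff_eq_inv, hinvT t htT] at h2
  have hsqP : ∀ c ∈ C, c ^ 2 ∈ (P : Subgroup G) := fun c hc => by
    rw [pow_two]
    exact (Subgroup.mul_mem_iff_of_index_two hidx (a := (⟨c, hc⟩ : C)) (b := ⟨c, hc⟩)).2 Iff.rfl
  have hTI : Cfsg.IsTISubset (C : Set G) := by
    intro g hg c hc hgc
    by_contra hc1
    refine hg ?_
    suffices hgN : g ∈ N by
      refine Coprime.mem_normalizer_of_forall fun a ha => mem_centralizer_iff.2 fun b hb => ?_
      have hb' : g⁻¹ * b * g⁻¹⁻¹ ∈ (P : Subgroup G) := (mem_normalizer_iff.1 (inv_mem hgN) b).1 hb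
      rw [inv_inv] at hb'
      have h := mem_centralizer_iff.1 ha _ hb'
      calc b * (g * a * g⁻¹) = g * ((g⁻¹ * b * g) * a) * g⁻¹ := by group
        _ = g * (a * (g⁻¹ * b * g)) * g⁻¹ := by rw [h]
        _ = g * a * g⁻¹ * b := by group
    by_cases hc2 : c ^ 2 = 1
    · rw [hsq1 c hc hc2 hc1] at hgc
      refine hCtN (mem_centralizer_singleton_iff.2 (mul_inv_eq_iff_eq_mul.1 (hsq1 _ hgc ?_ ?_)))
      · rw [conj_pow, ← ht, pow_orderOf_eq_one, mul_one, mul_inv_cancel]
      · exact fun h => ht1 (conj_eq_one_iff.1 h)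
    · have hg2 : g * c ^ 2 * g⁻¹ ∈ (P : Subgroup G) := by
        rw [← conj_pow]; exact hsqP _ hgc
      exact D.normalizes_of_conj_mem ht hc2 P (hsqP c hc) hg2 (mul_inv_eq_iff_eq_mul.1 (htP _ hg2))
  exact Cfsg.Agent.S4018.result P (D.abP P) hN hC hTI heven D.ctx.simple

end Data

end Cfsg.Agent.LargePrime
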