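/-
Groups in which `p` divides the order of every proper subgroup of order divisible by `q` which is not a `q`-group,
with `p` large compared with the `q`-part, are divisible by no prime other than `p` and `q`.

Main result: `LargePrime.concl`.
-/
import Cfsg.Agent.Lib.LargePrimeMixed.CaseA

set_option autoImplicit false

namespace Cfsg.Agent.LargePrime

open Subgroup

universe u

theorem concl_ctx_false {G : Type u} [Group G] [Finite G] {p q : ℕ} [hpp : Fact p.Prime] [hq : Fact q.Prime]
    (C : Ctx p q G) : False := by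
  obtain ⟨R, x, hR, hxN, ⟨k, hk⟩, hxC⟩ := C.exists_mover
  obtain ⟨hRc, hpa, hfree⟩ := move_data C.hpq C.hyp hR hxN hk hxC
  obtain rfl : q = 2 := by
    by_contra hq2
    have hodd : Odd (q ^ (Nat.card G).factorization q) := (hq.out.odd_of_ne_two hq2).pow
    obtain ⟨i, hi⟩ := hodd
    obtain ⟨j, hj⟩ := hpp.out.odd_of_ne_two C.hp2
    omega
  have habP : ∀ P : Sylow p G, IsMulCommutative P := by
    rcases C.hyp.large with h | ⟨-, h⟩
    · omega
    · exact h
  obtain ⟨T, hT⟩ := hR.exists_le_sylow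
  have heq : R = (T : Subgroup G) := eq_of_le_of_card_ge hT (by rw [hRc, T.card_eq_multiplicity])
  subst heq
  have D : Data p T x := ⟨C, hpa, habP, hxN, ⟨k, hk⟩, hfree⟩
  by_cases hno : ∀ i z : G, orderOf i = 2 → (∃ k, orderOf z = p ^ k) → i * z = z * i → z = 1
  · exact D.false_of_free hno
  · push Not at hno
    obtain ⟨i, z, hi, hz, hiz, hz1⟩ := hno
    obtain ⟨u, hu, huo⟩ := D.exists_involution
    obtain ⟨g, rfl⟩ := D.isConj_involution hi hu (fun h => by rw [h, orderOf_one] at huo; omega)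
    refine D.false_of_fixing hu huo (D.pElem_conj (g := g⁻¹) hz) (fun h => hz1 (conj_eq_one_iff.1 h)) ?_
    calc u * (g⁻¹ * z * g⁻¹⁻¹) = g⁻¹ * (g * u * g⁻¹ * z) * g := by group
      _ = g⁻¹ * (z * (g * u * g⁻¹)) * g := by rw [hiz]
      _ = g⁻¹ * z * g⁻¹⁻¹ * u := by group

theorem concl {p q : ℕ} [hpp : Fact p.Prime] [hq : Fact q.Prime] (hpq : p ≠ q) (hp2 : p ≠ 2) :
    ∀ (n : ℕ) (G : Type u) [Group G] [Finite G], Nat.card G ≤ n → Hyp p q G → q ∣ Nat.card G → Concl p q G := by
  intro n
  induction n with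
  | zero => intro G _ _ hle; exact absurd hle (by simp [Nat.card_pos.ne'])
  | succ n ih =>
    intro G _ _ hle h hqG
    by_contra hC
    have sub : ∀ H : Subgroup G, H ≠ ⊤ → q ∣ Nat.card H → Concl p q H := by
      intro H hH hqH
      by_cases hnq : IsPGroup q H
      · intro r hr hd
        obtain ⟨j, hj⟩ := hnq.exists_card_eq
        exact Or.inr ((Nat.prime_dvd_prime_iff_eq hr hq.out).1 (hr.dvd_of_dvd_pow (hj ▸ hd)))
      · refine ih H ?_ (h.subgroup H hH hqH hnq) hqH
        have h1 : Nat.card H ≤ Nat.card G := Nat.le_of_dvd Nat.card_pos (card_subgroup_dvd_card H)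
        have h2 : Nat.card H ≠ Nat.card G := fun e => hH (eq_top_of_card_eq H e)
        omega
    have hquot : ∀ N : Subgroup G, N.Normal → N ≠ ⊥ → IsPGroup p N → False := fun N hN hN1 hNp => by
      refine hC (concl_of_pGroup_normal hpq h hqG N hNp hN1 fun hQ hqQ => ih (G ⧸ N) ?_ hQ hqQ)
      have h1 := N.card_eq_card_quotient_mul_card_subgroup
      have h2 : 1 < Nat.card N := (one_lt_card_iff_ne_bot N).2 hN1
      have h3 : Nat.card (G ⧸ N) * 2 ≤ Nat.card G := h1 ▸ Nat.mul_le_mul_left _ h2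
      have h4 : 0 < Nat.card (G ⧸ N) := Nat.card_pos
      omega
    haveI : Nontrivial G := by
      rw [← Finite.one_lt_card_iff_nontrivial]
      exact lt_of_lt_of_le hq.out.one_lt (Nat.le_of_dvd Nat.card_pos hqG)
    have hsimple : IsSimpleGroup G :=
      ⟨fun N hN => by
        by_contra hh
        push Not at hh
        exact normal_false hpq h hqG hC sub hquot N hh.1 hh.2⟩
    simp only [Concl, not_forall, not_or] at hC
    obtain ⟨r, hr, hrG, hrp, hrq⟩ := hC
    exact concl_ctx_false ⟨h, hpq, hp2, hqG, hsimple, ⟨r, hr, hrG, hrp, hrq⟩, sub⟩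

end Cfsg.Agent.LargePrime
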